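import Cfsg.Agent.Lib.MaxSub.SLThree.Hess.Dichot

/-!
Finite subgroups of `GL(2, F)` without elements of order `p`, through their image in a `PSL(2, K)`.
-/

set_option autoImplicit false
set_option maxHeartbeats 800000
set_option linter.unusedSectionVars false

namespace CfsgLib.ResThree

open Matrix CfsgLib.DicksonFull
open CfsgLib.MaxSub.SLThree.Hess (dihedral_derived a4_derived)
open scoped commutatorElement

variable {F : Type*} [Field F] [Finite F] {p : ℕ} [Fact p.Prime] [CharP F p]

local notation "G2" => GL (Fin 2) F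
local notation "M2" => Matrix (Fin 2) (Fin 2) F

/-- A scalar element of `GL(2, F)`. -/
def IsScal (A : GL (Fin 2) F) : Prop := ∃ a : F, A.1 = a • (1 : Matrix (Fin 2) (Fin 2) F)

/-- No non-trivial element of order dividing `p`. -/
def NoP (p : ℕ) (H : Subgroup (GL (Fin 2) F)) : Prop := ∀ A ∈ H, A ^ p = 1 → A = 1

variable (F p) in
/-- A map onto a group of matrices all of whose determinants are squares. -/
theorem exists_proj_sq : ∃ (K : Type) (_ : Field K) (_ : Fintype K) (_ : CharP K p)
    (ι : G2 →* Matrix.ProjectiveSpecialLinearGroup (Fin 2) K), ∀ A : G2, ι A = 1 ↔ IsScal A := by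
  classical
  haveI := Fintype.ofFinite F
  obtain ⟨n, hp, hn⟩ := FiniteField.card F p
  letI := ZMod.algebra F p
  haveI := Fintype.ofFinite (GaloisField p (2 * n))
  have hcard : Fintype.card (GaloisField p (2 * n)) = (p ^ (n : ℕ)) ^ 2 := by
    rw [← Nat.card_eq_fintype_card, GaloisField.card p _ (Nat.mul_ne_zero two_ne_zero n.pos.ne'), ← pow_mul, mul_comm]
  have hfr : Module.finrank (ZMod p) F = n := by
    have h1 := Module.card_eq_pow_finrank (K := ZMod p) (V := F)
    rw [hn, ZMod.card] at h1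
    exact (Nat.pow_right_injective hp.two_le h1).symm
  obtain ⟨g⟩ := FiniteField.nonempty_algHom_of_finrank_dvd (F := ZMod p) (K := F) (L := GaloisField p (2 * n))
    (by rw [hfr, GaloisField.finrank p (Nat.mul_ne_zero two_ne_zero n.pos.ne')]; exact dvd_mul_left _ _)
  set f := g.toRingHom
  have hsq : ∀ a : F, IsSquare (f a) := fun a => by
    by_cases ha : f a = 0
    · rw [ha]; exact IsSquare.zero
    by_cases h2 : p = 2
    · exact FiniteField.isSquare_of_char_two (by subst h2; exact ringChar.eq _ 2) _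
    rw [FiniteField.isSquare_iff (by rw [ringChar.eq _ p]; exact h2) ha, hcard]
    have hodd : Odd (p ^ (n : ℕ)) := (hp.odd_of_ne_two h2).pow
    obtain ⟨k, hk⟩ := hodd
    rw [hk] at hn ⊢
    have hpa : a ^ (2 * k) = 1 := by
      have := FiniteField.pow_card_sub_one_eq_one a (fun h => ha (by rw [h, map_zero]))
      rwa [hn, Nat.add_sub_cancel] at this
    rw [show (2 * k + 1) ^ 2 = 1 + 2 * (2 * k * (k + 1)) by ring, Nat.add_mul_div_left _ _ two_pos,
      show (1 : ℕ) / 2 = 0 by norm_num, zero_add, pow_mul, ← map_pow, hpa, map_one, one_pow]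
  choose r hr using hsq
  have hdet : ∀ A : G2, (A.1.map f).det = r A.1.det * r A.1.det := fun A => by
    rw [← hr, RingHom.map_det]; rfl
  have hne : ∀ A : G2, r A.1.det ≠ 0 := fun A h => by
    have := hr A.1.det
    rw [h, mul_zero, map_eq_zero] at this
    exact Matrix.GeneralLinearGroup.det_ne_zero A this
  let L : G2 → Matrix.SpecialLinearGroup (Fin 2) (GaloisField p (2 * n)) := fun A =>
    ⟨(r A.1.det)⁻¹ • A.1.map f, by
      rw [Matrix.det_smul, hdet, Fintype.card_fin]
      field_simp [hne A]⟩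
  have hL : ∀ A B, L (A * B) = L A * L B ∨ L (A * B) = -(L A * L B) := fun A B => by
    have e : r (A * B).1.det * r (A * B).1.det = (r A.1.det * r B.1.det) * (r A.1.det * r B.1.det) := by
      rw [← hr, Units.val_mul, Matrix.det_mul, map_mul, hr, hr]; ring
    rcases mul_self_eq_mul_self_iff.1 e with h | h
    · left
      apply Subtype.ext
      show (r (A * B).1.det)⁻¹ • (A * B).1.map f = ((r A.1.det)⁻¹ • A.1.map f) * ((r B.1.det)⁻¹ • B.1.map f)
      rw [h, Units.val_mul, Matrix.map_mul, Matrix.smul_mul, Matrix.mul_smul, smul_smul, mul_inv]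
    · right
      apply Subtype.ext
      show (r (A * B).1.det)⁻¹ • (A * B).1.map f = -(((r A.1.det)⁻¹ • A.1.map f) * ((r B.1.det)⁻¹ • B.1.map f))
      rw [h, Units.val_mul, Matrix.map_mul, Matrix.smul_mul, Matrix.mul_smul, smul_smul, inv_neg, mul_inv,
        neg_smul]
  let ι : G2 →* Matrix.ProjectiveSpecialLinearGroup (Fin 2) (GaloisField p (2 * n)) :=
    MonoidHom.mk' (fun A => PSL2.mk (L A)) fun A B => by
      show PSL2.mk (L (A * B)) = PSL2.mk (L A) * PSL2.mk (L B)
      rcases hL A B with h | h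
      · rw [h, map_mul]
      · rw [h, mk_neg, map_mul]
  refine ⟨GaloisField p (2 * n), inferInstance, Fintype.ofFinite _, inferInstance, ι,
    fun A => ⟨fun h => ?_, fun ⟨a, ha⟩ => ?_⟩⟩
  · have hs : ∃ c : GaloisField p (2 * n), A.1.map f = c • (1 : Matrix (Fin 2) (Fin 2) _) := by
      rcases mk_eq_one h with e | e
      · refine ⟨r A.1.det, ?_⟩
        have e' : (r A.1.det)⁻¹ • A.1.map f = 1 := congrArg Subtype.val e
        rw [← e', smul_smul, mul_inv_cancel₀ (hne A), one_smul]
      · refine ⟨-r A.1.det, ?_⟩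
        have e' : (r A.1.det)⁻¹ • A.1.map f = -1 := congrArg Subtype.val e
        rw [neg_smul, ← smul_neg, ← e', smul_smul, mul_inv_cancel₀ (hne A), one_smul]
    obtain ⟨c, hc⟩ := hs
    have e00 : f (A.1 0 0) = c := by simpa using congrFun (congrFun hc 0) 0
    have e01 : A.1 0 1 = 0 := by simpa using congrFun (congrFun hc 0) 1
    have e10 : A.1 1 0 = 0 := by simpa using congrFun (congrFun hc 1) 0
    have e11 : f (A.1 1 1) = c := by simpa using congrFun (congrFun hc 1) 1
    refine ⟨A.1 0 0, ?_⟩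
    ext i j
    fin_cases i <;> fin_cases j <;> simp [e01, e10]
    exact f.injective (e11.trans e00.symm)
  · have hm : A.1.map f = f a • (1 : Matrix (Fin 2) (Fin 2) _) := by
      rw [ha]; ext i j; fin_cases i <;> fin_cases j <;> simp
    have hdd := hdet A
    rw [hm, Matrix.det_smul, Matrix.det_one, mul_one, Fintype.card_fin, sq] at hdd
    show PSL2.mk (L A) = 1
    rcases mul_self_eq_mul_self_iff.1 hdd with e | e
    · rw [show L A = 1 from Subtype.ext (by
        show (r A.1.det)⁻¹ • A.1.map f = 1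
        rw [hm, e, smul_smul, inv_mul_cancel₀ (hne A), one_smul]), map_one]
    · rw [show L A = -1 from Subtype.ext (by
        show (r A.1.det)⁻¹ • A.1.map f = -1
        rw [hm, e, smul_smul, mul_neg, inv_mul_cancel₀ (hne A), neg_one_smul]), mk_neg, map_one]

/-- The two properties of `A₄`, `S₄`, `A₅`, cyclic and dihedral groups that are used. -/
def FourFour (M : Type*) [Group M] : Prop :=
  ∀ a b : M, a * a * (a * a) = 1 → a * a ≠ 1 → b * b * (b * b) = 1 → b * b ≠ 1 →
    a * b = b * a ∨ a * b * (a * b) * (a * b) = 1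

/-- The centraliser of an involution consists of elements of order dividing four. -/
def InvCent (M : Type*) [Group M] : Prop :=
  ∀ a b : M, b * b = 1 → b ≠ 1 → a * b = b * a → a * a * (a * a) = 1

theorem fourFour_a4 : FourFour (alternatingGroup (Fin 4)) ∧ InvCent (alternatingGroup (Fin 4)) := by
  constructor
  · unfold FourFour; decide +kernel
  · unfold InvCent; decide +kernel

set_option synthInstance.maxSize 4000 in
set_option synthInstance.maxHeartbeats 200000 in
theorem fourFour_s4 : FourFour (Equiv.Perm (Fin 4)) ∧ InvCent (Equiv.Perm (Fin 4)) := by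
  constructor
  · unfold FourFour; decide +kernel
  · unfold InvCent; decide +kernel

theorem fourFour_a5 : FourFour (alternatingGroup (Fin 5)) ∧ InvCent (alternatingGroup (Fin 5)) := by
  constructor
  · unfold FourFour; decide +kernel
  · unfold InvCent; decide +kernel

theorem fourFour_of_equiv {G M : Type*} [Group G] [Group M] (e : G ≃* M) :
    (FourFour M → FourFour G) ∧ (InvCent M → InvCent G) := by
  refine ⟨fun h a b ha ha' hb hb' => ?_, fun h a b hb hb' hab => e.injective ?_⟩
  · rcases h (e a) (e b) (by simp only [← map_mul, ha, map_one])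
      (fun h1 => ha' (e.injective (by rw [map_mul, map_one]; exact h1)))
      (by simp only [← map_mul, hb, map_one])
      (fun h1 => hb' (e.injective (by rw [map_mul, map_one]; exact h1))) with h1 | h1
    · exact Or.inl (e.injective (by rw [map_mul, map_mul]; exact h1))
    · exact Or.inr (e.injective (by simp only [map_mul, map_one]; exact h1))
  · simp only [map_mul, map_one]
    exact h (e a) (e b) (by rw [← map_mul, hb, map_one]) (fun h1 => hb' (e.injective (h1.trans (map_one e).symm)))
      (by rw [← map_mul, hab, map_mul])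

theorem fourFour_dihedral {k : ℕ} : FourFour (DihedralGroup k) := by
  intro a b ha ha' hb hb'
  rcases a with i | i
  · rcases b with j | j
    · exact Or.inl (by rw [DihedralGroup.r_mul_r, DihedralGroup.r_mul_r, add_comm])
    · exact absurd (DihedralGroup.sr_mul_self j) hb'
  · exact absurd (DihedralGroup.sr_mul_self i) ha'

/-- The dichotomy for a group without elements of order `p`. -/
theorem plane_facts {H : Subgroup G2} (hH : NoP p H) :
    (∀ a ∈ H, ∀ b ∈ H, IsScal (a * a * (a * a)) → ¬ IsScal (a * a) → IsScal (b * b * (b * b)) →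
      ¬ IsScal (b * b) → IsScal ⁅a, b⁆ ∨ (IsScal (a * b * (a * b) * (a * b)) ∧ p ≠ 3)) ∧
    ((∃ u ∈ ⁅H, H⁆, ∃ v ∈ ⁅H, H⁆, ¬ IsScal ⁅u, v⁆) → ∀ a ∈ H, ∀ b ∈ H, IsScal (b * b) → ¬ IsScal b →
      IsScal ⁅a, b⁆ → IsScal (a * a * (a * a))) := by
  classical
  obtain ⟨K, iK, iKt, iKp, ι, hι⟩ := exists_proj_sq F p
  set X := H.map ι with hX
  have hXp : ∀ x ∈ X, orderOf x ≠ p := by
    rintro _ ⟨A, hA, rfl⟩ ho
    obtain ⟨k, m, hm, hn⟩ := Nat.exists_eq_pow_mul_and_not_dvd (n := orderOf A) (orderOf_pos A).ne' p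
      (Fact.out : p.Prime).one_lt.ne'
    have hpow : ∀ j, (A ^ m) ^ (p ^ j) = 1 → A ^ m = 1 := by
      intro j
      induction j with
      | zero => intro h; simpa using h
      | succ j ih =>
        intro h
        refine ih (hH _ (pow_mem (pow_mem hA m) _) ?_)
        rwa [← pow_mul, ← pow_succ]
    have h1 : A ^ m = 1 := hpow k (by rw [← pow_mul, mul_comm, ← hn, pow_orderOf_eq_one])
    have h2 : (ι A) ^ m = 1 := by rw [← map_pow, h1, map_one]
    exact hm (ho ▸ orderOf_dvd_of_pow_eq_one h2)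
  have hcomm : ∀ a b : G2, IsScal ⁅a, b⁆ ↔ ι a * ι b = ι b * ι a := fun a b => by
    rw [← hι, map_commutatorElement, commutatorElement_eq_one_iff_mul_comm]
  have kinds : (∀ a ∈ X, ∀ b ∈ X, a * b = b * a) ∨ (∃ k, Nonempty (X ≃* DihedralGroup k)) ∨
      (FourFour X ∧ InvCent X) := by
    rcases kind (psl (F := K) p) X with h | ⟨x, hx, hxH, h⟩ | ⟨x, hx, hxH, ⟨e⟩⟩ | ⟨⟨e⟩⟩ | ⟨⟨e⟩⟩ | ⟨⟨e⟩⟩ |
      ⟨w, hwH, hw, -⟩ | ⟨w, z, hwH, hw, -⟩
    · exact Or.inl fun a ha b hb => by
        rw [h, Subgroup.mem_bot] at ha hb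
        rw [ha, hb]
    · exact Or.inl fun a ha b hb => (tor_comm hx (h ha) (h hb)).eq
    · exact Or.inr (Or.inl ⟨_, ⟨e⟩⟩)
    · exact Or.inr (Or.inr ⟨(fourFour_of_equiv e).1 fourFour_a4.1, (fourFour_of_equiv e).2 fourFour_a4.2⟩)
    · exact Or.inr (Or.inr ⟨(fourFour_of_equiv e).1 fourFour_s4.1, (fourFour_of_equiv e).2 fourFour_s4.2⟩)
    · exact Or.inr (Or.inr ⟨(fourFour_of_equiv e).1 fourFour_a5.1, (fourFour_of_equiv e).2 fourFour_a5.2⟩)
    · exact absurd hw (hXp w hwH)
    · exact absurd hw (hXp w hwH)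
  refine ⟨fun a ha b hb ha4 ha2 hb4 hb2 => ?_, fun ⟨u, hu, v, hv, huv⟩ a ha b hb hb2 hb1 hab => ?_⟩
  · have ff : FourFour X := by
      rcases kinds with h | ⟨k, ⟨e⟩⟩ | h
      · exact fun x y _ _ _ _ => Or.inl (Subtype.ext (h _ x.2 _ y.2))
      · exact (fourFour_of_equiv e).1 fourFour_dihedral
      · exact h.1
    rcases ff ⟨ι a, a, ha, rfl⟩ ⟨ι b, b, hb, rfl⟩
      (Subtype.ext (by simp only [Subgroup.coe_mul, ← map_mul]; exact (hι _).2 ha4))
      (fun h1 => ha2 ((hι _).1 (by rw [map_mul]; exact congrArg Subtype.val h1)))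
      (Subtype.ext (by simp only [Subgroup.coe_mul, ← map_mul]; exact (hι _).2 hb4))
      (fun h1 => hb2 ((hι _).1 (by rw [map_mul]; exact congrArg Subtype.val h1))) with h1 | h1
    · exact Or.inl ((hcomm a b).2 (congrArg Subtype.val h1))
    · have h3 : ι a * ι b * (ι a * ι b) * (ι a * ι b) = 1 := congrArg Subtype.val h1
      by_cases h0 : ι a * ι b = 1
      · left
        rw [hcomm, h0, eq_inv_of_mul_eq_one_left h0]
        exact (mul_inv_cancel _).symm
      refine Or.inr ⟨(hι _).1 (by simp only [map_mul]; exact h3), fun hp3 => hXp (ι a * ι b) ?_ ?_⟩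
      · rw [← map_mul]; exact ⟨_, mul_mem ha hb, rfl⟩
      · rw [hp3]
        haveI : Fact (Nat.Prime 3) := ⟨Nat.prime_three⟩
        exact orderOf_eq_prime (by rw [pow_succ, pow_two]; exact h3) h0
  · have ic : InvCent X := by
      have hu' : ι u ∈ ⁅X, X⁆ := by rw [hX, ← Subgroup.map_commutator]; exact ⟨u, hu, rfl⟩
      have hv' : ι v ∈ ⁅X, X⁆ := by rw [hX, ← Subgroup.map_commutator]; exact ⟨v, hv, rfl⟩
      rcases kinds with h | ⟨k, ⟨e⟩⟩ | h
      · exact absurd ((hcomm u v).2 (h _ (Subgroup.commutator_le_self X hu') _ (Subgroup.commutator_le_self X hv'))) huv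
      · exfalso
        have hmem : ∀ a ∈ ⁅X, X⁆, ∃ (ha : a ∈ X) (i : _), e ⟨a, ha⟩ = DihedralGroup.r i := by
          intro a ha
          have haX : a ∈ X := Subgroup.commutator_le_self X ha
          have : (⟨a, haX⟩ : X) ∈ commutator X := by
            rw [← Subgroup.map_subtype_commutator X] at ha
            obtain ⟨y, hy, rfl⟩ := ha
            exact hy
          obtain ⟨i, hi⟩ := dihedral_derived (a := e ⟨a, haX⟩) (by
            have h1 : (commutator X).map e.toMonoidHom = commutator _ := by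
              rw [commutator_def, Subgroup.map_commutator, ← MonoidHom.range_eq_map,
                MonoidHom.range_eq_top.2 e.surjective, ← commutator_def]
            rw [← h1]; exact ⟨_, this, rfl⟩)
          exact ⟨haX, i, hi⟩
        obtain ⟨h1, i, hi⟩ := hmem _ hu'
        obtain ⟨h2, j, hj⟩ := hmem _ hv'
        have : (⟨ι u, h1⟩ : X) * ⟨ι v, h2⟩ = ⟨ι v, h2⟩ * ⟨ι u, h1⟩ := e.injective (by
          rw [map_mul, map_mul, hi, hj, DihedralGroup.r_mul_r, DihedralGroup.r_mul_r, add_comm])
        exact huv ((hcomm u v).2 (congrArg Subtype.val this))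
      · exact h.2
    have := ic ⟨ι a, a, ha, rfl⟩ ⟨ι b, b, hb, rfl⟩
      (Subtype.ext (by simp only [Subgroup.coe_mul, ← map_mul]; exact (hι _).2 hb2))
      (fun h1 => hb1 ((hι _).1 (congrArg Subtype.val h1))) (Subtype.ext ((hcomm a b).1 hab))
    exact (hι _).1 (by simp only [map_mul]; exact congrArg Subtype.val this)

end CfsgLib.ResThree
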