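import Cfsg.Agent.Lib.MaxSub.ResThree.Basic
import Cfsg.Agent.Lib.MaxSub.ResThree.NoTv.Plane
import Cfsg.Agent.Lib.PSLThreeInvolution

/-!
The centraliser of `diag(1, -1, -1)`: the block homomorphism, the odd centraliser lemma and change of coordinates.
-/

set_option autoImplicit false
set_option linter.unusedSectionVars false

namespace CfsgLib.ResThree

open Matrix
open scoped commutatorElement

variable {F : Type*} [Field F] [Finite F]

local notation "G3" => Matrix.GeneralLinearGroup (Fin 3) F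
local notation "G2" => Matrix.GeneralLinearGroup (Fin 2) F
local notation "M3" => Matrix (Fin 3) (Fin 3) F
local notation "M2" => Matrix (Fin 2) (Fin 2) F

/-- `diag(1, -1, -1)`. -/
def J0 : Matrix (Fin 3) (Fin 3) F := diagonal ![1, -1, -1]

/-- Block diagonal for `1 + 2`. -/
def Split (M : Matrix (Fin 3) (Fin 3) F) : Prop := M 0 1 = 0 ∧ M 0 2 = 0 ∧ M 1 0 = 0 ∧ M 2 0 = 0

/-- The lower block. -/
def blk (M : Matrix (Fin 3) (Fin 3) F) : Matrix (Fin 2) (Fin 2) F := !![M 1 1, M 1 2; M 2 1, M 2 2]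

theorem J0_split : Split (J0 : M3) := by simp [Split, J0]

theorem Split.one : Split (1 : M3) := by simp [Split]

theorem blk_one : blk (1 : M3) = 1 := by ext i j; fin_cases i <;> fin_cases j <;> simp [blk]

theorem Split.mul {M N : M3} (hM : Split M) (hN : Split N) : Split (M * N) := by
  obtain ⟨a, b, c, d⟩ := hM
  obtain ⟨a', b', c', d'⟩ := hN
  simp [Split, Matrix.mul_apply, Fin.sum_univ_three, a, b, c, d, a', b', c', d']

theorem Split.blk_mul {M N : M3} (hM : Split M) (hN : Split N) : blk (M * N) = blk M * blk N := by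
  obtain ⟨a, b, c, d⟩ := hM
  obtain ⟨a', b', c', d'⟩ := hN
  ext i j
  fin_cases i <;> fin_cases j <;> simp [blk, Matrix.mul_apply, Fin.sum_univ_three, Fin.sum_univ_two, a', b', c, d]

theorem Split.mul_zero_zero {M N : M3} (hM : Split M) : (M * N) 0 0 = M 0 0 * N 0 0 := by
  obtain ⟨a, b, c, d⟩ := hM
  simp [Matrix.mul_apply, Fin.sum_univ_three, a, b]

theorem Split.ext {M N : M3} (hM : Split M) (hN : Split N) (h0 : M 0 0 = N 0 0) (h : blk M = blk N) : M = N := by
  obtain ⟨a, b, c, d⟩ := hM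
  obtain ⟨a', b', c', d'⟩ := hN
  have e := fun i j => congrFun (congrFun h i) j
  have e00 := e 0 0
  have e01 := e 0 1
  have e10 := e 1 0
  have e11 := e 1 1
  simp [blk] at e00 e01 e10 e11
  ext i j
  fin_cases i <;> fin_cases j <;> simp [a, b, c, d, a', b', c', d', h0, e00, e01, e10, e11]

theorem Split.det {M : M3} (hM : Split M) : M.det = M 0 0 * (blk M).det := by
  obtain ⟨a, b, c, d⟩ := hM
  rw [Matrix.det_fin_three, Matrix.det_fin_two]
  simp [blk, a, b, c, d]
  ring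

theorem split_iff (h2 : (2 : F) ≠ 0) {M : M3} : M * J0 = J0 * M ↔ Split M := by
  have hz : ∀ a : F, a = -a → a = 0 := fun a h => by
    have : (2 : F) * a = 0 := by linear_combination h
    exact (mul_eq_zero.1 this).resolve_left h2
  refine ⟨fun h => ?_, fun ⟨a, b, c, d⟩ => ?_⟩
  · have e := fun i j => congrFun (congrFun h i) j
    have e01 := e 0 1
    have e02 := e 0 2
    have e10 := e 1 0
    have e20 := e 2 0
    simp [J0, Matrix.mul_diagonal, Matrix.diagonal_mul] at e01 e02 e10 e20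
    exact ⟨hz _ e01.symm, hz _ e02.symm, hz _ e10, hz _ e20⟩
  · ext i j
    fin_cases i <;> fin_cases j <;> simp [J0, Matrix.mul_diagonal, Matrix.diagonal_mul, a, b, c, d]

theorem Split.inv (h2 : (2 : F) ≠ 0) {g : G3} (hg : Split g.1) : Split (g⁻¹).1 := by
  rw [← split_iff h2] at hg ⊢
  calc (g⁻¹).1 * J0 = (g⁻¹).1 * (J0 * g.1) * (g⁻¹).1 := by rw [mul_assoc, mul_assoc, g.mul_inv, mul_one]
    _ = (g⁻¹).1 * (g.1 * J0) * (g⁻¹).1 := by rw [hg]
    _ = J0 * (g⁻¹).1 := by rw [← mul_assoc (g⁻¹).1, g.inv_mul, one_mul]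

/-- The block diagonal invertible matrices. -/
def Cz (h2 : (2 : F) ≠ 0) : Subgroup G3 where
  carrier := {g | Split g.1}
  one_mem' := Split.one
  mul_mem' := fun ha hb => ha.mul hb
  inv_mem' := fun ha => Split.inv h2 ha

/-- The block homomorphism. -/
def beta (h2 : (2 : F) ≠ 0) : Cz (F := F) h2 →* G2 :=
  MonoidHom.toHomUnits
    { toFun := fun g => blk g.1.1
      map_one' := blk_one
      map_mul' := fun a b => Split.blk_mul a.2 b.2 }

@[simp] theorem coe_beta (h2 : (2 : F) ≠ 0) (g : Cz (F := F) h2) : (beta h2 g).1 = blk g.1.1 := rfl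

/-- Determinant one and no transvection. -/
structure Pre (P : Subgroup G3) : Prop where
  det : ∀ g ∈ P, g.1.det = 1
  notv : ¬ HasTransvection P

/-- Change of coordinates. -/
def conjP (T : G3) (P : Subgroup G3) : Subgroup G3 := P.map (MulAut.conj T).toMonoidHom

theorem mem_conjP {T : G3} {P : Subgroup G3} {g : G3} : g ∈ conjP T P ↔ T⁻¹ * g * T ∈ P := by
  constructor
  · rintro ⟨x, hx, rfl⟩
    simpa [mul_assoc] using hx
  · intro h
    exact ⟨_, h, by simp [mul_assoc]⟩

theorem IsTv.conj {x : G3} {c φ : Fin 3 → F} (h : IsTv x c φ) (T : G3) :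
    IsTv (T * x * T⁻¹) (T.1 *ᵥ c) (φ ᵥ* (T⁻¹).1) := by
  obtain ⟨hc, hφ, h0, he⟩ := h
  refine ⟨fun h => hc ?_, fun h => hφ ?_, ?_, ?_⟩
  · have := congrArg ((T⁻¹).1 *ᵥ ·) h
    simpa [Matrix.mulVec_mulVec, Matrix.mulVec_zero] using this
  · have := congrArg (· ᵥ* T.1) h
    simpa [Matrix.vecMul_vecMul, Matrix.zero_vecMul] using this
  · rw [← Matrix.dotProduct_mulVec, Matrix.mulVec_mulVec, T.inv_mul, Matrix.one_mulVec, h0]
  · rw [Units.val_mul, Units.val_mul, he, mul_add, mul_one, add_mul, T.mul_inv, Matrix.mul_vecMulVec,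
      Matrix.vecMulVec_mul]

theorem Pre.conj {P : Subgroup G3} (h : Pre P) (T : G3) : Pre (conjP T P) := by
  refine ⟨fun g hg => ?_, fun ⟨g, hg, c, φ, htv⟩ => h.notv ⟨_, mem_conjP.1 hg, _, _, by simpa using htv.conj T⁻¹⟩⟩
  have := h.det _ (mem_conjP.1 hg)
  rw [Units.val_mul, Units.val_mul, Matrix.det_mul, Matrix.det_mul] at this
  have hT : (T⁻¹).1.det * T.1.det = 1 := by rw [← Matrix.det_mul, T.inv_mul, Matrix.det_one]
  linear_combination this - g.1.det * hT

/-- An involution of determinant one in standard position. -/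
theorem exists_std (h2 : (2 : F) ≠ 0) {t : G3} (ht : t * t = 1) (hne : t ≠ 1) (hd : t.1.det = 1) :
    ∃ T : G3, (T * t * T⁻¹).1 = J0 := by
  haveI := Fintype.ofFinite F
  obtain ⟨P, hP⟩ := CfsgLib.PSLThree.exists_diag_form h2 (T := t.1) (congrArg Units.val ht) hd
    (fun h => hne (Units.ext h))
  let S : M3 := !![0, 0, 1; 0, 1, 0; 1, 0, 0]
  have hS : S * S = 1 := by
    ext i j; fin_cases i <;> fin_cases j <;> simp [S, Matrix.mul_apply, Fin.sum_univ_three]
  refine ⟨⟨S, S, hS, hS⟩ * P⁻¹, ?_⟩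
  rw [_root_.mul_inv_rev, inv_inv, Units.val_mul, Units.val_mul, Units.val_mul, Units.val_mul, hP]
  show S * (P⁻¹).1 * (P.1 * diagonal CfsgLib.PSLThree.dvec * (P⁻¹).1) * (P.1 * S) = J0
  rw [show S * (P⁻¹).1 * (P.1 * diagonal CfsgLib.PSLThree.dvec * (P⁻¹).1) * (P.1 * S) =
    S * ((P⁻¹).1 * P.1) * diagonal CfsgLib.PSLThree.dvec * ((P⁻¹).1 * P.1) * S by simp only [mul_assoc],
    P.inv_mul, mul_one, mul_one]
  ext i j
  fin_cases i <;> fin_cases j <;>
    simp [S, J0, CfsgLib.PSLThree.dvec, Matrix.mul_apply, Fin.sum_univ_three, Matrix.vecMul_diagonal]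

variable {p : ℕ} [Fact p.Prime] [CharP F p]

/-- A unipotent element of the block is a transvection. -/
theorem Pre.noP {P : Subgroup G3} (h : Pre P) (h2 : (2 : F) ≠ 0) :
    NoP p ((P.subgroupOf (Cz h2)).map (beta h2)) := by
  rintro _ ⟨g, hg, rfl⟩ hp
  have hdet := h.det _ hg
  rw [Subgroup.coe_subtype, Split.det g.2] at hdet
  have hA : (blk g.1.1) ^ p = 1 := by
    have := congrArg Units.val hp
    rwa [Units.val_pow_eq_pow_val, coe_beta] at this
  have hd : (blk g.1.1).det = 1 := by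
    have := congrArg Matrix.det hA
    rw [Matrix.det_pow, Matrix.det_one] at this
    exact sub_eq_zero.1 (eq_zero_of_pow_eq_zero (n := p) (by rw [sub_pow_char, one_pow, this, sub_self]))
  rw [hd, mul_one] at hdet
  set N := blk g.1.1 - 1 with hN
  haveI : CharP M2 p := Matrix.charP p
  have hnil : IsNilpotent N := ⟨p, by
    rw [hN, sub_pow_char_of_commute p (Commute.one_right _), one_pow, hA, sub_self]⟩
  have htr : N.trace = 0 := IsNilpotent.eq_zero (Matrix.isNilpotent_trace_of_isNilpotent hnil)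
  have hdN : N.det = 0 := IsNilpotent.eq_zero (by
    obtain ⟨n, hn⟩ := hnil
    exact ⟨n + 1, by rw [← Matrix.det_pow, pow_succ, hn, zero_mul, Matrix.det_zero]⟩)
  by_contra hne
  have hN0 : N ≠ 0 := fun e => hne (Units.ext (by rw [coe_beta, Units.val_one]; exact sub_eq_zero.1 (hN ▸ e)))
  rw [Matrix.trace_fin_two] at htr
  rw [Matrix.det_fin_two] at hdN
  obtain ⟨a, b, c, d, hab⟩ : ∃ a b c d : F, N = !![a, b; c, d] :=
    ⟨N 0 0, N 0 1, N 1 0, N 1 1, Matrix.eta_fin_two N⟩
  rw [hab] at htr hdN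
  simp at htr hdN
  have hd' : d = -a := by linear_combination htr
  subst hd'
  obtain ⟨s01, s02, s10, s20⟩ := g.2
  have hB : blk g.1.1 = !![1 + a, b; c, 1 - a] := by
    rw [show blk g.1.1 = N + 1 by rw [hN]; abel, hab]
    ext i j; fin_cases i <;> fin_cases j <;> simp <;> ring
  have e := fun i j => congrFun (congrFun hB i) j
  have e00 := e 0 0
  have e01 := e 0 1
  have e10 := e 1 0
  have e11 := e 1 1
  simp [blk] at e00 e01 e10 e11
  by_cases hb : b = 0
  · have ha : a = 0 := by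
      subst hb
      have : a * a = 0 := by linear_combination -hdN
      exact mul_self_eq_zero.1 this
    have hc : c ≠ 0 := fun hc => hN0 (by rw [hab, hb, ha, hc]; ext i j; fin_cases i <;> fin_cases j <;> simp)
    refine h.notv ⟨g.1, hg, ![0, 0, c], ![0, 1, 0], fun e => hc (by simpa using congrFun e 2),
      fun e => one_ne_zero (α := F) (by simpa using congrFun e 1), by simp, ?_⟩
    ext i j
    fin_cases i <;> fin_cases j <;>
      simp [Matrix.vecMulVec_apply, hdet, s01, s02, s10, s20, e00, e01, e10, e11, ha, hb]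
  · refine h.notv ⟨g.1, hg, ![0, b, -a], ![0, a / b, 1], fun e => hb (by simpa using congrFun e 1),
      fun e => one_ne_zero (α := F) (by simpa using congrFun e 2), by simp; field_simp; ring, ?_⟩
    have hc : c = -(a * (a / b)) := by
      field_simp
      linear_combination -hdN
    ext i j
    fin_cases i <;> fin_cases j <;>
      simp [Matrix.vecMulVec_apply, hdet, s01, s02, s10, s20, e00, e01, e10, e11, hc] <;> field_simp <;> ring

/-- In the centraliser of an involution, the odd elements commuting with a second involution act on the axis by a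
scalar. -/
theorem odd_block {P : Subgroup G3} (h : Pre P) (h2 : (2 : F) ≠ 0)
    (hC : ∃ u ∈ ⁅P ⊓ Cz h2, P ⊓ Cz h2⁆, ∃ v ∈ ⁅P ⊓ Cz h2, P ⊓ Cz h2⁆, ⁅u, v⁆ * u ≠ u * ⁅u, v⁆)
    {j d : G3} (hj : j ∈ P) (hd : d ∈ P) (hjS : Split j.1) (hdS : Split d.1) (hj2 : j * j = 1) (hj1 : j ≠ 1)
    (hjJ : j.1 ≠ J0) (hjd : j * d = d * j) (hodd : Odd (orderOf d)) :
    ∃ a b : F, d.1 = a • (1 : M3) + b • J0 := by
  obtain ⟨p, hp⟩ := CharP.exists F
  haveI : Fact p.Prime := ⟨CharP.char_is_prime F p⟩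
  set P0 := P.subgroupOf (Cz h2)
  have hmap : ∀ x ∈ ⁅P ⊓ Cz h2, P ⊓ Cz h2⁆, ∃ hx : x ∈ Cz h2, beta h2 ⟨x, hx⟩ ∈ ⁅P0.map (beta h2), P0.map (beta h2)⁆ := by
    intro x hx
    rw [← Subgroup.map_commutator]
    have hPP : P ⊓ Cz h2 = P0.map (Cz h2).subtype := by
      rw [Subgroup.subgroupOf_map_subtype]
    rw [hPP, ← Subgroup.map_commutator] at hx
    obtain ⟨y, hy, rfl⟩ := hx
    exact ⟨y.2, y, hy, rfl⟩
  obtain ⟨u, hu, v, hv, huv⟩ := hC
  obtain ⟨huC, hu'⟩ := hmap u hu
  obtain ⟨hvC, hv'⟩ := hmap v hv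
  obtain ⟨-, facts⟩ := plane_facts (p := p) (h.noP h2)
  have hns : ¬ IsScal (beta h2 ⟨j, hjS⟩) := fun ⟨c, hc⟩ => by
    rw [coe_beta] at hc
    have hdet := h.det j hj
    rw [Split.det hjS, show blk j.1 = c • 1 from hc, Matrix.det_smul, Matrix.det_one, mul_one, Fintype.card_fin] at hdet
    have hsq := congrArg Units.val hj2
    rw [Units.val_mul, Units.val_one] at hsq
    have hb := congrArg blk hsq
    rw [Split.blk_mul hjS hjS, show blk j.1 = c • 1 from hc, blk_one, Matrix.smul_mul, one_mul, smul_smul] at hb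
    have hc2 : c * c = 1 := by simpa using congrFun (congrFun hb 0) 0
    have h00 : j.1 0 0 = 1 := by rw [sq, hc2, mul_one] at hdet; exact hdet
    rcases mul_self_eq_one_iff.1 hc2 with rfl | rfl
    · exact hj1 (Units.ext (Split.ext hjS Split.one (by simp [h00]) (by simpa [blk_one] using hc)))
    · refine hjJ (Split.ext hjS J0_split (by simp [h00, J0]) ?_)
      rw [show blk j.1 = _ from hc]
      ext a b; fin_cases a <;> fin_cases b <;> simp [blk, J0]
  have hone : IsScal (1 : G2) := ⟨1, by rw [one_smul, Units.val_one]⟩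
  have key := facts ⟨_, hu', _, hv', fun ⟨c, hc⟩ => huv ?_⟩ (beta h2 ⟨d, hdS⟩) ⟨⟨d, hdS⟩, hd, rfl⟩
    (beta h2 ⟨j, hjS⟩) ⟨⟨j, hjS⟩, hj, rfl⟩
    (by rw [← map_mul, show (⟨j, hjS⟩ : Cz h2) * ⟨j, hjS⟩ = 1 from Subtype.ext hj2, map_one]; exact hone) hns
    (by
      rw [← map_commutatorElement, commutatorElement_eq_one_iff_mul_comm.2 (Subtype.ext hjd.symm), map_one]
      exact hone)
  · obtain ⟨c, hc⟩ := key
    obtain ⟨k, hk⟩ := hodd
    set A := blk d.1 with hA
    have hpow : ∀ n : ℕ, blk (d ^ n).1 = A ^ n := fun n => by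
      have := congrArg Units.val (map_pow (beta h2) (⟨d, hdS⟩ : Cz h2) n)
      rw [Units.val_pow_eq_pow_val, coe_beta, coe_beta, SubgroupClass.coe_pow] at this
      exact this
    have hA4 : A * A * (A * A) = c • 1 := by simpa using hc
    have h1 : A ^ (4 * (k * k + k)) * A = 1 := by
      rw [← pow_succ, show 4 * (k * k + k) + 1 = orderOf d * (2 * k + 1) by rw [hk]; ring, ← hpow, pow_mul,
        pow_orderOf_eq_one, one_pow, Units.val_one, blk_one]
    have h4 : A ^ 4 = c • (1 : M2) := by rw [← hA4]; noncomm_ring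
    rw [pow_mul, h4, smul_pow, one_pow, Matrix.smul_mul, one_mul] at h1
    have hc0 : c ^ (k * k + k) ≠ 0 := fun e => by rw [e, zero_smul] at h1; exact zero_ne_one h1
    have hAs : A = (c ^ (k * k + k))⁻¹ • (1 : M2) := by rw [← h1, smul_smul, inv_mul_cancel₀ hc0, one_smul]
    set r := (c ^ (k * k + k))⁻¹
    obtain ⟨a1, a2, a3, a4⟩ := hdS
    have e := fun i j => congrFun (congrFun hAs i) j
    have e00 := e 0 0
    have e01 := e 0 1
    have e10 := e 1 0
    have e11 := e 1 1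
    simp [hA, blk] at e00 e01 e10 e11
    refine ⟨(d.1 0 0 + r) / 2, (d.1 0 0 - r) / 2, ?_⟩
    ext i j
    fin_cases i <;> fin_cases j <;> simp [J0, a1, a2, a3, a4, e00, e01, e10, e11] <;> field_simp <;> ring
  · set uu : Cz (F := F) h2 := ⟨u, huC⟩
    set vv : Cz (F := F) h2 := ⟨v, hvC⟩
    have hw : ⁅uu, vv⁆ * uu = uu * ⁅uu, vv⁆ := by
      rw [← map_commutatorElement, coe_beta] at hc
      generalize ⁅uu, vv⁆ = w at hc ⊢
      refine Subtype.ext (Units.ext (Split.ext (w.2.mul uu.2) (Split.mul uu.2 w.2) ?_ ?_))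
      · show (w.1.1 * uu.1.1) 0 0 = (uu.1.1 * w.1.1) 0 0
        rw [Split.mul_zero_zero w.2, Split.mul_zero_zero uu.2, mul_comm]
      · show blk (w.1.1 * uu.1.1) = blk (uu.1.1 * w.1.1)
        rw [Split.blk_mul w.2 uu.2, Split.blk_mul uu.2 w.2, hc, Matrix.smul_mul, Matrix.mul_smul, one_mul, mul_one]
    exact congrArg Subtype.val hw

end CfsgLib.ResThree
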