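import Cfsg.Agent.Lib.MaxSub.ResThree.NoTv.Frame

/-!
Centralisers of four-groups and of certain elements of order three, without transvections.
-/

set_option autoImplicit false
set_option linter.unusedSectionVars false

namespace CfsgLib.ResThree

open Matrix
open scoped commutatorElement

variable {F : Type*} [Field F] [Finite F]

local notation "G3" => Matrix.GeneralLinearGroup (Fin 3) F
local notation "M3" => Matrix (Fin 3) (Fin 3) F
local notation "M2" => Matrix (Fin 2) (Fin 2) F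

theorem conj_val {T : G3} {g : G3} {a b : F} {t : G3} (h : (T * g * T⁻¹).1 = a • (1 : M3) + b • (T * t * T⁻¹).1) :
    g.1 = a • (1 : M3) + b • t.1 := by
  have := congrArg (fun X => (T⁻¹).1 * X * T.1) h
  simp only [Units.val_mul, add_mul, mul_add, smul_mul_assoc, mul_smul_comm, mul_one, ← mul_assoc, T.inv_mul, one_mul]
    at this
  simpa [mul_assoc] using this

theorem comm2 {J A B : M2} (hJ : ∀ c : F, J ≠ c • 1) (hA : A * J = J * A) (hB : B * J = J * B) : A * B = B * A := by
  have ea := fun i j => congrFun (congrFun hA i) j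
  have a00 := ea 0 0
  have a01 := ea 0 1
  have a10 := ea 1 0
  have eb := fun i j => congrFun (congrFun hB i) j
  have b00 := eb 0 0
  have b01 := eb 0 1
  have b10 := eb 1 0
  simp [Matrix.mul_apply, Fin.sum_univ_two] at a00 a01 a10 b00 b01 b10
  by_cases h01 : J 0 1 = 0
  · by_cases h10 : J 1 0 = 0
    · have hne : J 0 0 - J 1 1 ≠ 0 := fun h => hJ (J 0 0) (by
        ext i j; fin_cases i <;> fin_cases j <;> simp [h01, h10, (sub_eq_zero.1 h).symm])
      have z : ∀ x : F, x * (J 0 0 - J 1 1) = 0 → x = 0 := fun x h => (mul_eq_zero.1 h).resolve_right hne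
      have A01 : A 0 1 = 0 := z _ (by rw [h01] at a01; linear_combination -a01)
      have A10 : A 1 0 = 0 := z _ (by rw [h10] at a10; linear_combination a10)
      have B01 : B 0 1 = 0 := z _ (by rw [h01] at b01; linear_combination -b01)
      have B10 : B 1 0 = 0 := z _ (by rw [h10] at b10; linear_combination b10)
      ext i j; fin_cases i <;> fin_cases j <;> simp [Matrix.mul_apply, Fin.sum_univ_two, A01, A10, B01, B10, mul_comm]
    · ext i j
      fin_cases i <;> fin_cases j <;> simp [Matrix.mul_apply, Fin.sum_univ_two] <;>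
        refine mul_left_cancel₀ h10 ?_ <;> grind
  · ext i j
    fin_cases i <;> fin_cases j <;> simp [Matrix.mul_apply, Fin.sum_univ_two] <;>
      refine mul_left_cancel₀ h01 ?_ <;> grind

theorem mul_self_conj {T t : G3} (h : t * t = 1) : (T * t * T⁻¹) * (T * t * T⁻¹) = 1 := by
  calc T * t * T⁻¹ * (T * t * T⁻¹) = T * (t * t) * T⁻¹ := by group
    _ = 1 := by rw [h]; group

theorem conj_comm {T a b : G3} (h : a * b = b * a) :
    T * a * T⁻¹ * (T * b * T⁻¹) = T * b * T⁻¹ * (T * a * T⁻¹) := by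
  calc T * a * T⁻¹ * (T * b * T⁻¹) = T * (a * b) * T⁻¹ := by group
    _ = _ := by rw [h]; group

theorem conj_ne {T a b : G3} (h : a ≠ b) : T * a * T⁻¹ ≠ T * b * T⁻¹ := fun e =>
  h (mul_left_cancel (mul_right_cancel e))

theorem blk_not_scalar {j : G3} (hd : j.1.det = 1) (hjS : Split j.1) (hj2 : j * j = 1) (hj1 : j ≠ 1)
    (hjJ : j.1 ≠ J0) (c : F) : blk j.1 ≠ c • (1 : M2) := fun hc => by
  have hdet := hd
  rw [Split.det hjS, hc, Matrix.det_smul, Matrix.det_one, mul_one, Fintype.card_fin] at hdet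
  have hsq := congrArg Units.val hj2
  rw [Units.val_mul, Units.val_one] at hsq
  have hb := congrArg blk hsq
  rw [Split.blk_mul hjS hjS, hc, blk_one, Matrix.smul_mul, one_mul, smul_smul] at hb
  have hc2 : c * c = 1 := by simpa using congrFun (congrFun hb 0) 0
  have h00 : j.1 0 0 = 1 := by rw [sq, hc2, mul_one] at hdet; exact hdet
  rcases mul_self_eq_one_iff.1 hc2 with rfl | rfl
  · exact hj1 (Units.ext (Split.ext hjS Split.one (by simp [h00]) (by simpa [blk_one] using hc)))
  · refine hjJ (Split.ext hjS J0_split (by simp [h00, J0]) ?_)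
    rw [hc]
    ext a b; fin_cases a <;> fin_cases b <;> simp [blk, J0]

/-- The centraliser of two commuting involutions of determinant one is abelian. -/
theorem abelian_cent (h2 : (2 : F) ≠ 0) {t j : G3} (ht : t * t = 1) (hj : j * j = 1) (ht1 : t ≠ 1) (hj1 : j ≠ 1)
    (htj : t ≠ j) (hdt : t.1.det = 1) (hdj : j.1.det = 1) (hc : t * j = j * t) {x y : G3}
    (hxt : x * t = t * x) (hxj : x * j = j * x) (hyt : y * t = t * y) (hyj : y * j = j * y) : x * y = y * x := by
  obtain ⟨T, hT⟩ := exists_std h2 ht ht1 hdt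
  have key : ∀ z : G3, z * t = t * z → Split (T * z * T⁻¹).1 := fun z hz =>
    (split_iff h2).1 (by rw [← hT, ← Units.val_mul, conj_comm hz, Units.val_mul])
  have hjS := key j hc.symm
  have hblk : ∀ z : G3, z * t = t * z → z * j = j * z →
      blk (T * z * T⁻¹).1 * blk (T * j * T⁻¹).1 = blk (T * j * T⁻¹).1 * blk (T * z * T⁻¹).1 := fun z hz hz' => by
    rw [← Split.blk_mul (key z hz) hjS, ← Split.blk_mul hjS (key z hz), ← Units.val_mul, conj_comm hz',
      Units.val_mul]
  have hns := blk_not_scalar (j := T * j * T⁻¹)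
    (by
      rw [Units.val_mul, Units.val_mul, Matrix.det_mul, Matrix.det_mul, hdj, mul_one, ← Matrix.det_mul, T.mul_inv,
        Matrix.det_one])
    hjS (mul_self_conj hj) (fun e => hj1 (by simpa [mul_assoc] using congrArg (fun g => T⁻¹ * g * T) e))
    (fun e => htj ((mul_left_cancel (mul_right_cancel (Units.ext (hT.trans e.symm))))))
  have hxy : (T * x * T⁻¹) * (T * y * T⁻¹) = (T * y * T⁻¹) * (T * x * T⁻¹) := by
    refine Units.ext ?_
    show (T * x * T⁻¹).1 * (T * y * T⁻¹).1 = (T * y * T⁻¹).1 * (T * x * T⁻¹).1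
    refine Split.ext ((key x hxt).mul (key y hyt)) ((key y hyt).mul (key x hxt)) ?_ ?_
    · rw [Split.mul_zero_zero (key x hxt), Split.mul_zero_zero (key y hyt), mul_comm]
    · rw [Split.blk_mul (key x hxt) (key y hyt), Split.blk_mul (key y hyt) (key x hxt),
        comm2 hns (hblk x hxt hxj) (hblk y hyt hyj)]
  calc x * y = T⁻¹ * ((T * x * T⁻¹) * (T * y * T⁻¹)) * T := by group
    _ = y * x := by rw [hxy]; group

/-- An odd element commuting with two involutions acts on the axis of the first by a scalar. -/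
theorem odd_axis {P : Subgroup G3} (h : Pre P) (hC : CentRich P) (h2 : (2 : F) ≠ 0) {t j d : G3} (htP : t ∈ P)
    (hjP : j ∈ P) (hdP : d ∈ P) (ht : t * t = 1) (hj : j * j = 1) (ht1 : t ≠ 1) (hj1 : j ≠ 1) (htj : t ≠ j)
    (hc : t * j = j * t) (hdt : d * t = t * d) (hdj : d * j = j * d) (hodd : Odd (orderOf d)) :
    ∃ a b : F, d.1 = a • (1 : M3) + b • t.1 := by
  obtain ⟨T, hT⟩ := exists_std h2 ht ht1 (h.det t htP)
  have hm : ∀ g ∈ P, T * g * T⁻¹ ∈ conjP T P := fun g hg => mem_conjP.2 (by simpa [mul_assoc] using hg)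
  have key : ∀ z : G3, z * t = t * z → Split (T * z * T⁻¹).1 := fun z hz =>
    (split_iff h2).1 (by rw [← hT, ← Units.val_mul, conj_comm hz, Units.val_mul])
  have hcr := hC.conj T _ (hm t htP) (mul_self_conj ht) (fun e => ht1 (by
    simpa [mul_assoc] using congrArg (fun g => T⁻¹ * g * T) e))
  rw [centralizer_eq_Cz h2 hT] at hcr
  obtain ⟨a, b, hab⟩ := odd_block (h.conj T) h2 hcr (hm j hjP) (hm d hdP) (key j hc.symm) (key d hdt)
    (mul_self_conj hj) (fun e => hj1 (by simpa [mul_assoc] using congrArg (fun g => T⁻¹ * g * T) e))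
    (fun e => htj ((mul_left_cancel (mul_right_cancel (Units.ext (hT.trans e.symm))))))
    (conj_comm hdj.symm) (by
      rwa [show T * d * T⁻¹ = (MulAut.conj T) d from rfl, MulEquiv.orderOf_eq])
  rw [← hT] at hab
  exact ⟨a, b, conj_val hab⟩

/-- An odd element commuting with two involutions is scalar. -/
theorem odd_scalar_of_cent {P : Subgroup G3} (h : Pre P) (hC : CentRich P) (h2 : (2 : F) ≠ 0) {t j d : G3}
    (htP : t ∈ P) (hjP : j ∈ P) (hdP : d ∈ P) (ht : t * t = 1) (hj : j * j = 1) (ht1 : t ≠ 1) (hj1 : j ≠ 1)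
    (htj : t ≠ j) (hc : t * j = j * t) (hdt : d * t = t * d) (hdj : d * j = j * d) (hodd : Odd (orderOf d)) :
    ∃ a : F, d.1 = a • (1 : M3) := by
  obtain ⟨a, b, hab⟩ := odd_axis h hC h2 htP hjP hdP ht hj ht1 hj1 htj hc hdt hdj hodd
  obtain ⟨c, e, hce⟩ := odd_axis h hC h2 hjP htP hdP hj ht hj1 ht1 htj.symm hc.symm hdj hdt hodd
  by_cases he : e = 0
  · exact ⟨c, by rw [hce, he, zero_smul, add_zero]⟩
  exfalso
  have hj' : j.1 = (e⁻¹ * (a - c)) • (1 : M3) + (e⁻¹ * b) • t.1 := by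
    have h1 : e • j.1 = (a - c) • (1 : M3) + b • t.1 := by
      rw [sub_smul, sub_add_eq_add_sub, ← hab, hce]; abel
    rw [← smul_smul, ← smul_smul, ← smul_add, ← h1, smul_smul, inv_mul_cancel₀ he, one_smul]
  obtain ⟨T, hT⟩ := exists_std h2 ht ht1 (h.det t htP)
  have hjT : (T * j * T⁻¹).1 = (e⁻¹ * (a - c)) • (1 : M3) + (e⁻¹ * b) • J0 := by
    rw [← hT, Units.val_mul, Units.val_mul, hj', Units.val_mul, Units.val_mul]
    simp only [mul_add, add_mul, smul_mul_assoc, mul_smul_comm, mul_one, T.mul_inv]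
  refine blk_not_scalar (j := T * j * T⁻¹) ((h.conj T).det _ (mem_conjP.2 (by simpa [mul_assoc] using hjP)))
    (by rw [hjT]; simp [Split, J0]) (mul_self_conj hj)
    (fun e => hj1 (by simpa [mul_assoc] using congrArg (fun g => T⁻¹ * g * T) e))
    (fun e => htj ((mul_left_cancel (mul_right_cancel (Units.ext (hT.trans e.symm))))))
    (e⁻¹ * (a - c) - e⁻¹ * b) ?_
  rw [hjT]
  ext r s; fin_cases r <;> fin_cases s <;> simp [blk, J0] <;> ring

theorem three_cent_std {P : Subgroup G3} (h : Pre P) (hC : CentRich P) (h2 : (2 : F) ≠ 0) {a b t g : G3}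
    (htJ : t.1 = J0) (htP : t ∈ P) (haP : a ∈ P) (hbP : b ∈ P) (hgP : g ∈ P) (haS : Split a.1) (hbS : Split b.1)
    (h3 : ∃ c : F, (⁅a, b⁆ ^ 3).1 = c • (1 : M3)) (hns : ∀ c : F, ⁅a, b⁆.1 ≠ c • (1 : M3)) {ζ : F}
    (hg : g.1 * ⁅a, b⁆.1 = ζ • (⁅a, b⁆.1 * g.1)) : g * t = t * g := by
  set y := ⁅a, b⁆ with hy
  have hyP : y ∈ P := by
    rw [hy, commutatorElement_def]; exact mul_mem (mul_mem (mul_mem haP hbP) (inv_mem haP)) (inv_mem hbP)
  have hbeta := map_commutatorElement (beta h2) (⟨a, haS⟩ : Cz (F := F) h2) (⟨b, hbS⟩ : Cz (F := F) h2)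
  have hyS : Split y.1 := (⁅(⟨a, haS⟩ : Cz (F := F) h2), (⟨b, hbS⟩ : Cz (F := F) h2)⁆).2
  have hblk : blk y.1 = (⁅beta h2 (⟨a, haS⟩ : Cz (F := F) h2), beta h2 (⟨b, hbS⟩ : Cz (F := F) h2)⁆).1 := by
    rw [← hbeta]; rfl
  have hdetY : (blk y.1).det = 1 := by
    rw [hblk]
    have := congrArg Units.val (map_commutatorElement (Matrix.GeneralLinearGroup.det)
      (beta h2 (⟨a, haS⟩ : Cz (F := F) h2)) (beta h2 (⟨b, hbS⟩ : Cz (F := F) h2)))
    rw [commutatorElement_eq_one_iff_mul_comm.2 (mul_comm (Matrix.GeneralLinearGroup.det (beta h2 (⟨a, haS⟩ : Cz (F := F) h2))) _),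
      Units.val_one] at this
    exact this
  have h00 : y.1 0 0 = 1 := by
    have := h.det y hyP
    rwa [Split.det hyS, hdetY, mul_one] at this
  have hy3 : y ^ 3 = 1 := by
    obtain ⟨c, hc⟩ := h3
    refine Units.ext ?_
    rw [hc, Units.val_one]
    have hc1 : c = 1 := by
      have := congrFun (congrFun hc 0) 0
      rw [pow_succ, pow_two, Units.val_mul, Units.val_mul, Split.mul_zero_zero (hyS.mul hyS),
        Split.mul_zero_zero hyS, h00] at this
      simpa using this.symm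
    rw [hc1, one_smul]
  set Y := blk y.1 with hY
  have hY3 : Y * Y * Y = 1 := by
    rw [hY, ← Split.blk_mul hyS hyS, ← Split.blk_mul (hyS.mul hyS) hyS, ← Units.val_mul, ← Units.val_mul,
      ← pow_two, ← pow_succ, hy3, Units.val_one, blk_one]
  have hY1 : Y ≠ 1 := fun e => hns 1 (by
    rw [one_smul]; exact Split.ext hyS Split.one (by simp [h00]) (e.trans blk_one.symm))
  have hch : Y * Y = Y.trace • Y - (1 : M2) := by
    ext i j
    rw [Matrix.det_fin_two] at hdetY
    fin_cases i <;> fin_cases j <;>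
      simp [Matrix.mul_apply, Fin.sum_univ_two, Matrix.trace_fin_two] <;>
      first | ring1 | linear_combination -hdetY
  have hτ : Y.trace = -1 := by
    rcases cube_scalar (M := Y) (c := 1) (by rw [one_smul]; exact hY3) with ⟨m, hm⟩ | hd
    · exfalso
      have hm2 : m * m = 1 := by
        rw [hm, Matrix.det_smul, Matrix.det_one, mul_one, Fintype.card_fin, sq] at hdetY; exact hdetY
      rw [hm] at hY3
      simp only [smul_mul_assoc, one_mul, smul_smul] at hY3
      have hm3 : m * (m * m) = 1 := by simpa [mul_assoc] using congrFun (congrFun hY3 0) 0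
      rw [hm2, mul_one] at hm3
      exact hY1 (by rw [hm, hm3, one_smul])
    · rw [hdetY] at hd
      rcases mul_self_eq_one_iff.1 hd with hτ | hτ
      · exfalso
        rw [hτ, one_smul] at hch
        rw [hch, sub_mul, hch, one_mul] at hY3
        refine h2 ?_
        have := congrFun (congrFun hY3 0) 0
        simp at this
        linear_combination -this
      · exact hτ
  have h30 : (3 : F) ≠ 0 := fun h30 => by
    obtain ⟨p, hp⟩ := CharP.exists F
    haveI : Fact p.Prime := ⟨CharP.char_is_prime F p⟩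
    have hp3 : p = 3 := (Nat.prime_dvd_prime_iff_eq Fact.out Nat.prime_three).1
      ((CharP.cast_eq_zero_iff F p 3).1 (by exact_mod_cast h30))
    have := h.noP (p := p) h2 (beta h2 ⟨y, hyS⟩) ⟨⟨y, hyS⟩, hyP, rfl⟩
      (by rw [← map_pow, hp3, show (⟨y, hyS⟩ : Cz h2) ^ 3 = 1 from Subtype.ext hy3, map_one])
    exact hY1 (congrArg Units.val this)
  have hJ : J0 = ((2 : F) / 3) • (y.1 * y.1 + y.1 + 1) - 1 := by
    have hq : blk (y.1 * y.1 + y.1 + 1) = 0 := by
      rw [show blk (y.1 * y.1 + y.1 + 1) = blk (y.1 * y.1) + blk y.1 + blk (1 : M3) by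
        ext i j; fin_cases i <;> fin_cases j <;> simp [blk],
        Split.blk_mul hyS hyS, blk_one, ← hY, hch, hτ, neg_smul, one_smul]
      abel
    obtain ⟨a1, a2, a3, a4⟩ := hyS
    obtain ⟨q1, q2, q3, q4⟩ := (Split.mul ⟨a1, a2, a3, a4⟩ ⟨a1, a2, a3, a4⟩ : Split (y.1 * y.1))
    have e00 := Split.mul_zero_zero (M := y.1) (N := y.1) ⟨a1, a2, a3, a4⟩
    rw [h00, mul_one] at e00
    have e := fun i j => congrFun (congrFun hq i) j
    have q11 := e 0 0
    have q12 := e 0 1
    have q21 := e 1 0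
    have q22 := e 1 1
    simp [blk] at q11 q12 q21 q22
    ext i j
    fin_cases i <;> fin_cases j <;>
      simp [J0, a1, a2, a3, a4, q1, q2, q3, q4, e00, h00] <;> field_simp <;>
      first | ring1 | linear_combination -(2 : F) * q11 | linear_combination -(2 : F) * q12 |
        linear_combination -(2 : F) * q21 | linear_combination -(2 : F) * q22
  set t' := g * t * g⁻¹ with ht'
  have ht'J : t'.1 = ((2 : F) / 3) • ((ζ * ζ) • (y.1 * y.1) + ζ • y.1 + 1) - 1 := by
    have hgy : g.1 * y.1 * (g⁻¹).1 = ζ • y.1 := by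
      rw [hg, smul_mul_assoc, mul_assoc, g.mul_inv, mul_one]
    have hgy2 : g.1 * (y.1 * y.1) * (g⁻¹).1 = (ζ * ζ) • (y.1 * y.1) := by
      calc g.1 * (y.1 * y.1) * (g⁻¹).1 = g.1 * y.1 * ((g⁻¹).1 * g.1) * y.1 * (g⁻¹).1 := by
            rw [g.inv_mul, mul_one]; simp only [mul_assoc]
        _ = (g.1 * y.1 * (g⁻¹).1) * (g.1 * y.1 * (g⁻¹).1) := by simp only [mul_assoc]
        _ = _ := by rw [hgy, smul_mul_assoc, mul_smul_comm, smul_smul]
    rw [ht', Units.val_mul, Units.val_mul, htJ, hJ]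
    simp only [mul_sub, sub_mul, mul_add, add_mul, smul_mul_assoc, mul_smul_comm, mul_one, g.mul_inv, hgy, hgy2]
  have hyJ : y.1 * J0 = J0 * y.1 := (split_iff h2).2 hyS
  have hyt' : y * t' = t' * y := Units.ext (by
    show y.1 * t'.1 = t'.1 * y.1
    rw [ht'J]
    simp only [mul_sub, sub_mul, mul_add, add_mul, smul_mul_assoc, mul_smul_comm, mul_one, one_mul, mul_assoc])
  have htt' : t * t' = t' * t := Units.ext (by
    show t.1 * t'.1 = t'.1 * t.1
    rw [ht'J, htJ]
    simp only [mul_sub, sub_mul, mul_add, add_mul, smul_mul_assoc, mul_smul_comm, mul_one, one_mul, mul_assoc, hyJ]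
    simp only [← mul_assoc, hyJ])
  by_contra hne
  have hne' : t ≠ t' := fun e => hne (by
    calc g * t = g * t * g⁻¹ * g := by group
      _ = t * g := by rw [← ht', ← e])
  have ht2 : t * t = 1 := Units.ext (by
    rw [Units.val_mul, htJ, Units.val_one]; ext i j; fin_cases i <;> fin_cases j <;> simp [J0])
  have ht1 : t ≠ 1 := fun e => h2 (by
    rw [e, Units.val_one] at htJ
    have : (1 : F) = -1 := by simpa [J0] using congrFun (congrFun htJ 1) 1
    linear_combination this)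
  obtain ⟨c, hc⟩ := odd_scalar_of_cent h hC h2 htP (mul_mem (mul_mem hgP htP) (inv_mem hgP)) hyP ht2
    (mul_self_conj ht2) ht1 (fun e => ht1 (by simpa [mul_assoc] using congrArg (fun x => g⁻¹ * x * g) e)) hne' htt'
    (Units.ext (by rw [Units.val_mul, Units.val_mul, htJ, hyJ])) hyt'
    (Odd.of_dvd_nat (by decide) (orderOf_dvd_of_pow_eq_one hy3))
  exact hns c hc

/-- The normaliser modulo scalars of certain elements of order three centralises the involution. -/
theorem three_cent {P : Subgroup G3} (h : Pre P) (hC : CentRich P) (h2 : (2 : F) ≠ 0) {a b t g : G3}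
    (htP : t ∈ P) (ht : t * t = 1) (ht1 : t ≠ 1) (haP : a ∈ P) (hbP : b ∈ P) (hgP : g ∈ P) (hat : a * t = t * a)
    (hbt : b * t = t * b) (h3 : ∃ c : F, (⁅a, b⁆ ^ 3).1 = c • (1 : M3))
    (hns : ∀ c : F, ⁅a, b⁆.1 ≠ c • (1 : M3)) {ζ : F} (hg : g.1 * ⁅a, b⁆.1 = ζ • (⁅a, b⁆.1 * g.1)) :
    g * t = t * g := by
  obtain ⟨T, hT⟩ := exists_std h2 ht ht1 (h.det t htP)
  have hm : ∀ g ∈ P, T * g * T⁻¹ ∈ conjP T P := fun g hg => mem_conjP.2 (by simpa [mul_assoc] using hg)
  have key : ∀ z : G3, z * t = t * z → Split (T * z * T⁻¹).1 := fun z hz =>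
    (split_iff h2).1 (by rw [← hT, ← Units.val_mul, conj_comm hz, Units.val_mul])
  have hcomm : ⁅T * a * T⁻¹, T * b * T⁻¹⁆ = T * ⁅a, b⁆ * T⁻¹ := (map_commutatorElement (MulAut.conj T) a b).symm
  have hscal : ∀ (z : G3) (c : F), (T * z * T⁻¹).1 = c • (1 : M3) ↔ z.1 = c • (1 : M3) := by
    intro z c
    refine ⟨fun e => ?_, fun e => ?_⟩
    · have := conj_val (t := 1) (a := c) (b := 0) (T := T) (g := z) (by rw [e, zero_smul, add_zero])
      simpa using this
    · rw [Units.val_mul, Units.val_mul, e, mul_smul_comm, mul_one, smul_mul_assoc, T.mul_inv]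
  have := three_cent_std (h.conj T) (hC.conj T) h2 hT (hm t htP) (hm a haP) (hm b hbP) (hm g hgP) (key a hat)
    (key b hbt) (ζ := ζ)
    (by
      obtain ⟨c, hc⟩ := h3
      refine ⟨c, ?_⟩
      rw [hcomm, show (T * ⁅a, b⁆ * T⁻¹) ^ 3 = T * ⁅a, b⁆ ^ 3 * T⁻¹ from conj_pow, hscal]
      exact hc)
    (fun c e => hns c (by rw [hcomm, hscal] at e; exact e))
    (by
      rw [hcomm, ← Units.val_mul, ← Units.val_mul,
        show T * g * T⁻¹ * (T * ⁅a, b⁆ * T⁻¹) = T * (g * ⁅a, b⁆) * T⁻¹ by group,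
        show T * ⁅a, b⁆ * T⁻¹ * (T * g * T⁻¹) = T * (⁅a, b⁆ * g) * T⁻¹ by group, Units.val_mul, Units.val_mul,
        Units.val_mul g, hg, Units.val_mul, Units.val_mul, Units.val_mul ⁅a, b⁆, mul_smul_comm, smul_mul_assoc])
  calc g * t = T⁻¹ * ((T * g * T⁻¹) * (T * t * T⁻¹)) * T := by group
    _ = t * g := by rw [this]; group

end CfsgLib.ResThree
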