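import Cfsg.Agent.Lib.MaxSub.ResThree.NoTv.Kappa

/-!
No group without transvections contains the homologies of order four of a whole frame.
-/

set_option autoImplicit false
set_option linter.unusedSectionVars false

namespace CfsgLib.ResThree

open Matrix
open scoped commutatorElement

variable {F : Type*} [Field F] [Finite F]

local notation "G3" => Matrix.GeneralLinearGroup (Fin 3) F
local notation "M3" => Matrix (Fin 3) (Fin 3) F

/-- The derived subgroup of an involution centraliser is not nilpotent of class two. -/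
def CentRich (P : Subgroup (Matrix.GeneralLinearGroup (Fin 3) F)) : Prop :=
  ∀ t ∈ P, t * t = 1 → t ≠ 1 → ∃ u ∈ ⁅P ⊓ Subgroup.centralizer {t}, P ⊓ Subgroup.centralizer {t}⁆,
    ∃ v ∈ ⁅P ⊓ Subgroup.centralizer {t}, P ⊓ Subgroup.centralizer {t}⁆, ⁅u, v⁆ * u ≠ u * ⁅u, v⁆

theorem CentRich.conj {P : Subgroup G3} (h : CentRich P) (T : G3) : CentRich (conjP T P) := by
  intro t ht ht2 ht1
  set s := T⁻¹ * t * T with hs
  have hts : (MulAut.conj T).toMonoidHom s = t := by simp [hs, mul_assoc]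
  obtain ⟨u, hu, v, hv, huv⟩ := h s (mem_conjP.1 ht)
    (by
      show T⁻¹ * t * T * (T⁻¹ * t * T) = 1
      calc T⁻¹ * t * T * (T⁻¹ * t * T) = T⁻¹ * (t * t) * T := by group
        _ = 1 := by rw [ht2]; group)
    (fun e => ht1 (by rw [← hts, e, map_one]))
  set f := (MulAut.conj T).toMonoidHom with hf
  have hinj : Function.Injective f := (MulAut.conj T).injective
  have hle : (P ⊓ Subgroup.centralizer {s}).map f ≤ conjP T P ⊓ Subgroup.centralizer {t} := by
    rintro _ ⟨x, hx, rfl⟩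
    refine ⟨⟨x, hx.1, rfl⟩, Subgroup.mem_centralizer_singleton_iff.2 ?_⟩
    rw [← hts, ← map_mul, ← map_mul, Subgroup.mem_centralizer_singleton_iff.1 hx.2]
  have hmem : ∀ x ∈ ⁅P ⊓ Subgroup.centralizer {s}, P ⊓ Subgroup.centralizer {s}⁆,
      f x ∈ ⁅conjP T P ⊓ Subgroup.centralizer {t}, conjP T P ⊓ Subgroup.centralizer {t}⁆ := fun x hx => by
    have : f x ∈ (⁅P ⊓ Subgroup.centralizer {s}, P ⊓ Subgroup.centralizer {s}⁆).map f := ⟨x, hx, rfl⟩
    rw [Subgroup.map_commutator] at this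
    exact Subgroup.commutator_mono hle hle this
  refine ⟨f u, hmem u hu, f v, hmem v hv, fun e => huv (hinj ?_)⟩
  rw [map_mul, map_mul, map_commutatorElement]
  exact e

theorem centralizer_eq_Cz (h2 : (2 : F) ≠ 0) {t : G3} (ht : t.1 = J0) :
    Subgroup.centralizer ({t} : Set G3) = Cz h2 := by
  ext g
  rw [Subgroup.mem_centralizer_singleton_iff]
  show g * t = t * g ↔ Split g.1
  rw [← split_iff h2, ← ht, ← Units.val_mul, ← Units.val_mul, Units.val_inj]

theorem vecMulVec_conj (g : G3) (a b : Fin 3 → F) :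
    g.1 * vecMulVec a b * (g⁻¹).1 = vecMulVec (g.1 *ᵥ a) (b ᵥ* (g⁻¹).1) := by
  rw [Matrix.mul_vecMulVec, Matrix.vecMulVec_mul]

theorem lam_conj (g : G3) {n : G3} {i : F} {e : M3} (hn : n.1 = lam i e) :
    (g * n * g⁻¹).1 = lam i (g.1 * e * (g⁻¹).1) := by
  rw [Units.val_mul, Units.val_mul, hn]
  simp only [lam, add_mul, mul_add, smul_mul_assoc, mul_smul_comm, mul_one, g.mul_inv]

/-- A second homology in the centraliser of the first involution of a frame. -/
theorem half {P : Subgroup G3} (h : Pre P) (hC : CentRich P) (h2 : (2 : F) ≠ 0) {i : F} (hi : i * i = -1)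
    (hfr : ∀ k : Fin 3, ∃ g ∈ P, g.1 = lam i (Matrix.single k k (1 : F))) :
    ∃ w ψ : Fin 3 → F, w 0 = 0 ∧ ψ 0 = 0 ∧ ψ ⬝ᵥ w = 1 ∧ 2 * (ψ 1 * w 1) = 1 ∧ (3 : F) ≠ 0 ∧
      ∃ g ∈ P, g.1 = lam i (vecMulVec w ψ) := by
  obtain ⟨g0, hg0, hg0e⟩ := hfr 0
  obtain ⟨g1, hg1, hg1e⟩ := hfr 1
  have hsq : (g0 * g0).1 = J0 := by
    rw [Units.val_mul, hg0e, lam_sq hi (by rw [Matrix.single_mul_single_same, one_mul])]
    ext r s
    fin_cases r <;> fin_cases s <;> simp [J0] <;> ring
  set e1 : M3 := Matrix.single 1 1 1 with he1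
  set e2 : M3 := Matrix.single 2 2 1 with he2
  have hE1 : InPlane e1 := ⟨by simp [Split, he1], by simp [he1],
    by rw [he1, Matrix.single_mul_single_same, one_mul], by simp [he1, Matrix.trace_fin_three]⟩
  by_contra hno
  have act : ∀ c ∈ P, Split c.1 → ((c.1 * e1 * (c⁻¹).1 = e1 ∧ c.1 * e2 * (c⁻¹).1 = e2) ∨
      (c.1 * e1 * (c⁻¹).1 = e2 ∧ c.1 * e2 * (c⁻¹).1 = e1)) := by
    intro c hc hcS
    have hcS' := Split.inv h2 hcS
    have hform : c.1 * e1 * (c⁻¹).1 = vecMulVec (fun r => c.1 r 1) (fun s => (c⁻¹).1 1 s) := by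
      rw [he1, Matrix.single_eq_single_vecMulVec_single, vecMulVec_conj]
      congr 1 <;> funext r <;> simp [Matrix.mulVec_single, Matrix.single_vecMul]
    set f := c.1 * e1 * (c⁻¹).1 with hf
    have hF : InPlane f := ⟨(hcS.mul hE1.split).mul hcS',
      by rw [hf, Split.mul_zero_zero (hcS.mul hE1.split), Split.mul_zero_zero hcS, hE1.zero, mul_zero, zero_mul],
      by
        calc c.1 * e1 * (c⁻¹).1 * (c.1 * e1 * (c⁻¹).1) = c.1 * (e1 * ((c⁻¹).1 * c.1) * e1) * (c⁻¹).1 := by
              simp only [mul_assoc]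
          _ = c.1 * e1 * (c⁻¹).1 := by rw [c.inv_mul, mul_one, hE1.idem],
      by rw [hf, Matrix.trace_mul_comm, ← mul_assoc, c.inv_mul, one_mul, hE1.tr]⟩
    have hfg : (c * g1 * c⁻¹).1 = lam i f := lam_conj c hg1e
    rcases kappa_block h h2 hi hE1 hF hg1 (mul_mem (mul_mem hc hg1) (inv_mem hc)) hg1e hfg with hcm | ⟨hk, h3⟩
    · have e := fun r s => congrFun (congrFun hcm r) s
      have e12 := e 1 2
      have e21 := e 2 1
      simp [he1, Matrix.mul_apply, Fin.sum_univ_three] at e12 e21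
      replace e12 : f 1 2 = 0 := by first | exact e12 | exact e12.symm
      replace e21 : f 2 1 = 0 := by first | exact e21 | exact e21.symm
      obtain ⟨s01, s02, s10, s20⟩ := hF.split
      have hid := congrFun (congrFun hF.idem 1) 1
      simp [Matrix.mul_apply, Fin.sum_univ_three, s10, e12, e21] at hid
      have htr := hF.tr
      rw [Matrix.trace_fin_three, hF.zero, zero_add] at htr
      have e2c : c.1 * e2 * (c⁻¹).1 = (1 : M3) - Matrix.single 0 0 1 - f := by
        have hone : (1 : M3) = Matrix.single 0 0 1 + e1 + e2 := by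
          ext r s; fin_cases r <;> fin_cases s <;> simp [he1, he2]
        have hc0 : c.1 * Matrix.single 0 0 (1 : F) * (c⁻¹).1 = Matrix.single 0 0 1 := by
          obtain ⟨a, b, d, e⟩ := hcS
          have h00 : c.1 0 0 * (c⁻¹).1 0 0 = 1 := by
            rw [← Split.mul_zero_zero ⟨a, b, d, e⟩, c.mul_inv]; simp
          obtain ⟨a', b', d', e'⟩ := hcS'
          generalize (c⁻¹).1 = ci at h00 a' b' d' e' ⊢
          ext r s
          fin_cases r <;> fin_cases s <;>
            simp [Matrix.mul_apply, Fin.sum_univ_three, a, b, d, e, a', b', d', e', h00]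
        have := congrArg (fun X => c.1 * X * (c⁻¹).1) hone
        simp only [mul_one, c.mul_inv, mul_add, add_mul, hc0] at this
        rw [← hf] at this
        rw [this]; abel
      by_cases h11 : f 1 1 = 0
      · right
        have hf2 : f = e2 := by
          ext r s
          fin_cases r <;> fin_cases s <;>
            simp [he2, hF.zero, s01, s02, s10, s20, e12, e21, h11, show f 2 2 = 1 by linear_combination htr - h11]
        refine ⟨hf2, ?_⟩
        rw [e2c, hf2, he1, he2]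
        ext r s; fin_cases r <;> fin_cases s <;> simp
      · left
        have h1 : f 1 1 = 1 := mul_left_cancel₀ h11 (by rw [mul_one]; exact hid)
        have hf1 : f = e1 := by
          ext r s
          fin_cases r <;> fin_cases s <;>
            simp [he1, hF.zero, s01, s02, s10, s20, e12, e21, h1, show f 2 2 = 0 by linear_combination htr - h1]
        refine ⟨hf1, ?_⟩
        rw [e2c, hf1, he1, he2]
        ext r s; fin_cases r <;> fin_cases s <;> simp
    · exfalso
      obtain ⟨a, b, d, e⟩ := hcS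
      obtain ⟨a', b', d', e'⟩ := hcS'
      refine hno ⟨fun r => c.1 r 1, fun s => (c⁻¹).1 1 s, a, d', ?_, ?_, h3, _, mul_mem (mul_mem hc hg1) (inv_mem hc),
        by rw [hfg, hform]⟩
      · have := congrFun (congrFun c.inv_mul 1) 1
        simpa [Matrix.mul_apply, dotProduct] using this
      · have hte : (e1 * f).trace = f 1 1 := by simp [he1, Matrix.trace_fin_three, Matrix.mul_apply, Fin.sum_univ_three]
        rw [hte, hform, Matrix.vecMulVec_apply] at hk
        linear_combination hk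
  have hdiag : ∀ x ∈ ⁅P ⊓ Cz h2, P ⊓ Cz h2⁆, Split x.1 ∧ x.1 1 2 = 0 ∧ x.1 2 1 = 0 := by
    intro x hx
    have hfix : x.1 * e1 = e1 * x.1 := by
      induction hx using Subgroup.closure_induction with
      | mem y hy =>
        obtain ⟨c, hc, d, hd, rfl⟩ := hy
        let A : G3 → M3 → M3 := fun g X => g.1 * X * (g⁻¹).1
        have hA : ∀ g g' X, A (g * g') X = A g (A g' X) := fun g g' X => by
          simp only [A, _root_.mul_inv_rev, Units.val_mul, mul_assoc]
        have key : A ⁅c, d⁆ e1 = e1 := by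
          have q1 := act c hc.1 hc.2
          have q2 := act d hd.1 hd.2
          have q3 := act c⁻¹ (inv_mem hc.1) ((Cz h2).inv_mem hc.2)
          have q4 := act d⁻¹ (inv_mem hd.1) ((Cz h2).inv_mem hd.2)
          have i1 : A c (A c⁻¹ e1) = e1 := by rw [← hA, mul_inv_cancel]; simp [A]
          have i2 : A d (A d⁻¹ e1) = e1 := by rw [← hA, mul_inv_cancel]; simp [A]
          have hne : e1 ≠ e2 := fun h => one_ne_zero (α := F) (by simpa [he1, he2] using congrFun (congrFun h 1) 1)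
          rw [commutatorElement_def, hA, hA, hA]
          rcases q1 with ⟨a1, a2⟩ | ⟨a1, a2⟩ <;> rcases q2 with ⟨b1, b2⟩ | ⟨b1, b2⟩ <;>
            rcases q3 with ⟨c1, c2⟩ | ⟨c1, c2⟩ <;> rcases q4 with ⟨d1, d2⟩ | ⟨d1, d2⟩ <;>
            simp only [A] at i1 i2 ⊢ <;> simp only [a1, a2, b1, b2, c1, c2, d1, d2] at i1 i2 ⊢ <;>
            first
            | rfl
            | exact absurd i1.symm hne
            | exact absurd i2.symm hne
        calc ⁅c, d⁆.1 * e1 = A ⁅c, d⁆ e1 * ⁅c, d⁆.1 := by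
              simp only [A, mul_assoc]; rw [(⁅c, d⁆).inv_mul, mul_one]
          _ = e1 * ⁅c, d⁆.1 := by rw [key]
      | one => simp
      | mul y z _ _ hy hz => rw [Units.val_mul, mul_assoc, hz, ← mul_assoc, hy, mul_assoc]
      | inv y _ hy =>
        calc (y⁻¹).1 * e1 = (y⁻¹).1 * (e1 * y.1) * (y⁻¹).1 := by rw [mul_assoc, mul_assoc, y.mul_inv, mul_one]
          _ = e1 * (y⁻¹).1 := by rw [← hy, ← mul_assoc (y⁻¹).1, y.inv_mul, one_mul]
    have hsplit : Split x.1 := (Subgroup.commutator_le_self _ hx).2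
    have e12 := congrFun (congrFun hfix 1) 2
    have e21 := congrFun (congrFun hfix 2) 1
    simp [he1, Matrix.mul_apply, Fin.sum_univ_three] at e12 e21
    exact ⟨hsplit, by simpa using e12.symm, by simpa using e21⟩
  obtain ⟨u, hu, v, hv, huv⟩ := hC (g0 * g0) (mul_mem hg0 hg0)
    (Units.ext (by rw [Units.val_mul, hsq]; ext r s; fin_cases r <;> fin_cases s <;> simp [J0]))
    (fun e => by
      rw [e, Units.val_one] at hsq
      exact h2 (by linear_combination (by simpa [J0] using congrFun (congrFun hsq 1) 1 : (1 : F) = -1)))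
  rw [centralizer_eq_Cz h2 hsq] at hu hv
  obtain ⟨⟨a, b, c, d⟩, u12, u21⟩ := hdiag u hu
  obtain ⟨⟨a', b', c', d'⟩, v12, v21⟩ := hdiag v hv
  refine huv ?_
  have huv' : u * v = v * u := Units.ext (by
    ext r s
    fin_cases r <;> fin_cases s <;>
      simp [Matrix.mul_apply, Fin.sum_univ_three, a, b, c, d, u12, u21, a', b', c', d', v12, v21, mul_comm])
  rw [commutatorElement_eq_one_iff_mul_comm.2 huv', one_mul, mul_one]

/-- The exchange of the first two coordinates. -/
def swapG : Matrix.GeneralLinearGroup (Fin 3) F :=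
  ⟨!![0, 1, 0; 1, 0, 0; 0, 0, 1], !![0, 1, 0; 1, 0, 0; 0, 0, 1],
    by ext i j; fin_cases i <;> fin_cases j <;> simp [Matrix.mul_apply, Fin.sum_univ_three],
    by ext i j; fin_cases i <;> fin_cases j <;> simp [Matrix.mul_apply, Fin.sum_univ_three]⟩

/-- The contradiction. -/
theorem frame_false {P : Subgroup G3} (h : Pre P) (hC : CentRich P) (h2 : (2 : F) ≠ 0) {i : F} (hi : i * i = -1)
    (hfr : ∀ k : Fin 3, ∃ g ∈ P, g.1 = lam i (Matrix.single k k (1 : F))) : False := by
  obtain ⟨w, ψ, w0, ψ0, hw, hk, h3, a, ha, hae⟩ := half h hC h2 hi hfr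
  have hS : (swapG (F := F))⁻¹ = swapG := rfl
  have hfr' : ∀ k : Fin 3, ∃ g ∈ conjP swapG P, g.1 = lam i (Matrix.single k k (1 : F)) := by
    intro k
    obtain ⟨g, hg, hge⟩ := hfr (Equiv.swap 0 1 k)
    refine ⟨swapG * g * swapG⁻¹, mem_conjP.2 (by simpa [mul_assoc] using hg), ?_⟩
    rw [lam_conj swapG hge]
    congr 1
    ext r s
    fin_cases k <;> fin_cases r <;> fin_cases s <;>
      simp [hS, swapG, Matrix.mul_apply, Fin.sum_univ_three, Equiv.swap_apply_def, Matrix.vecMul, dotProduct]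
  obtain ⟨w', ψ', w0', ψ0', hw', hk', -, b, hb, hbe⟩ := half (h.conj swapG) (hC.conj swapG) h2 hi hfr'
  have hbe' : (swapG⁻¹ * b * swapG).1 = lam i (vecMulVec ![w' 1, w' 0, w' 2] ![ψ' 1, ψ' 0, ψ' 2]) := by
    have := lam_conj swapG⁻¹ hbe
    rw [inv_inv] at this
    rw [this, Matrix.mul_vecMulVec, Matrix.vecMulVec_mul]
    congr 2 <;> funext r <;> fin_cases r <;>
      simp [hS, swapG, Matrix.mulVec, Matrix.vecMul, dotProduct, Fin.sum_univ_three]
  simp only [dotProduct, Fin.sum_univ_three, w0, ψ0, w0', ψ0', mul_zero, zero_add] at hw hw'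
  have hkap : 4 * ((ψ ⬝ᵥ ![w' 1, w' 0, w' 2]) * (![ψ' 1, ψ' 0, ψ' 2] ⬝ᵥ w)) = 1 := by
    simp [dotProduct, Fin.sum_univ_three, w0, ψ0, w0', ψ0']
    linear_combination (2 * (ψ' 2 * w' 2)) * (2 * hw - hk) + (2 * hw' - hk')
  set κ := (ψ ⬝ᵥ ![w' 1, w' 0, w' 2]) * (![ψ' 1, ψ' 0, ψ' 2] ⬝ᵥ w)
  obtain ⟨hhalf, -⟩ := kappa_free h h2 hi (u := w) (φ := ψ) (w := ![w' 1, w' 0, w' 2]) (ψ := ![ψ' 1, ψ' 0, ψ' 2])
    (by simp only [dotProduct, Fin.sum_univ_three, w0, ψ0, mul_zero, zero_add]; exact hw)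
    (by simp [dotProduct, Fin.sum_univ_three, w0', ψ0']; linear_combination hw')
    (fun e => by rw [show κ = 0 from e] at hkap; simp at hkap)
    (fun e => by rw [show κ = 1 from e] at hkap; exact h3 (by linear_combination hkap))
    ha (mem_conjP.1 hb) hae hbe'
  exact one_ne_zero (α := F) (by linear_combination hkap - 2 * hhalf)

end CfsgLib.ResThree
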