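import Cfsg.Agent.Lib.MaxSub.ResThree.NoTv.Block

/-!
Two homologies of order four without transvections: the invariant of their centres and axes is `0`, `1` or `1/2`.
-/

set_option autoImplicit false
set_option linter.unusedSectionVars false

namespace CfsgLib.ResThree

open Matrix
open scoped commutatorElement

variable {F : Type*} [Field F] [Finite F]

local notation "G3" => Matrix.GeneralLinearGroup (Fin 3) F
local notation "G2" => Matrix.GeneralLinearGroup (Fin 2) F
local notation "M3" => Matrix (Fin 3) (Fin 3) F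
local notation "M2" => Matrix (Fin 2) (Fin 2) F

/-- The homology with eigenvalue `-1` on the image of the idempotent `e` and `i` on its kernel. -/
def lam {n : ℕ} (i : F) (e : Matrix (Fin n) (Fin n) F) : Matrix (Fin n) (Fin n) F := i • 1 + (-1 - i) • e

variable {n : ℕ}

theorem lam_mul {i j : F} (e : Matrix (Fin n) (Fin n) F) (f : Matrix (Fin n) (Fin n) F) :
    lam i e * lam j f =
      (i * j) • (1 : Matrix (Fin n) (Fin n) F) + (i * (-1 - j)) • f + ((-1 - i) * j) • e
        + ((-1 - i) * (-1 - j)) • (e * f) := by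
  simp only [lam, add_mul, mul_add, smul_mul_assoc, mul_smul_comm, one_mul, mul_one, smul_smul]
  module

theorem lam_inv {i : F} (hi : i * i = -1) {e : Matrix (Fin n) (Fin n) F} (he : e * e = e) :
    lam i e * lam (-i) e = 1 := by
  rw [lam_mul, he, show i * -i = 1 by linear_combination -hi, one_smul, add_assoc, add_assoc, ← add_smul, ← add_smul,
    show i * (-1 - -i) + ((-1 - i) * -i + (-1 - i) * (-1 - -i)) = 0 by linear_combination hi, zero_smul, add_zero]

theorem lam_sq {i : F} (hi : i * i = -1) {e : Matrix (Fin n) (Fin n) F} (he : e * e = e) :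
    lam i e * lam i e = (-1 : F) • (1 : Matrix (Fin n) (Fin n) F) + (2 : F) • e := by
  rw [lam_mul, he, hi, add_assoc, add_assoc, ← add_smul, ← add_smul,
    show i * (-1 - i) + ((-1 - i) * i + (-1 - i) * (-1 - i)) = (2 : F) by linear_combination -hi]

theorem cube_scalar {M : M2} {c : F} (h : M * M * M = c • 1) :
    (∃ m : F, M = m • 1) ∨ M.trace * M.trace = M.det := by
  by_cases hd : M.trace * M.trace = M.det
  · exact Or.inr hd
  refine Or.inl ⟨M 0 0, ?_⟩
  rw [Matrix.trace_fin_two, Matrix.det_fin_two] at hd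
  have hd' : (M 0 0 + M 1 1) * (M 0 0 + M 1 1) - (M 0 0 * M 1 1 - M 0 1 * M 1 0) ≠ 0 := sub_ne_zero.2 hd
  have e := fun i j => congrFun (congrFun h i) j
  have e00 := e 0 0
  have e01 := e 0 1
  have e10 := e 1 0
  have e11 := e 1 1
  simp [Matrix.mul_apply, Fin.sum_univ_two] at e00 e01 e10 e11
  have h01 : M 0 1 = 0 := (mul_eq_zero.1 (by linear_combination e01 :
    M 0 1 * ((M 0 0 + M 1 1) * (M 0 0 + M 1 1) - (M 0 0 * M 1 1 - M 0 1 * M 1 0)) = 0)).resolve_right hd'
  have h10 : M 1 0 = 0 := (mul_eq_zero.1 (by linear_combination e10 :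
    M 1 0 * ((M 0 0 + M 1 1) * (M 0 0 + M 1 1) - (M 0 0 * M 1 1 - M 0 1 * M 1 0)) = 0)).resolve_right hd'
  have h11 : M 1 1 - M 0 0 = 0 := (mul_eq_zero.1 (by linear_combination e11 - e00 :
    (M 1 1 - M 0 0) * ((M 0 0 + M 1 1) * (M 0 0 + M 1 1) - (M 0 0 * M 1 1 - M 0 1 * M 1 0)) = 0)).resolve_right hd'
  rw [sub_eq_zero] at h11
  ext i j
  fin_cases i <;> fin_cases j <;> simp [h01, h10, h11]

theorem det_lam {i : F} (hi : i * i = -1) {E : M2} (he : E * E = E) (ht : E.trace = 1) : (lam i E).det = -i := by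
  have e00 := congrFun (congrFun he 0) 0
  simp [Matrix.mul_apply, Fin.sum_univ_two] at e00
  rw [Matrix.trace_fin_two] at ht
  rw [Matrix.det_fin_two]
  simp [lam]
  linear_combination (i * (-1 - i) + (-1 - i) * (-1 - i) * E 0 0) * ht - (-1 - i) * (-1 - i) * e00

theorem trace_lam_mul {i j : F} {E F' : M2} (hE : E.trace = 1) (hF : F'.trace = 1) :
    (lam i E * lam j F').trace =
      2 * (i * j) + i * (-1 - j) + (-1 - i) * j + (-1 - i) * (-1 - j) * (E * F').trace := by
  rw [lam_mul]
  simp [Matrix.trace_add, Matrix.trace_smul, hE, hF]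
  ring

/-- Homologies that commute up to a scalar commute. -/
theorem comm_of_scal (h2 : (2 : F) ≠ 0) {i j s : F} (hi : i * i = -1) (hj : j * j = -1) {E F' : M2}
    (hE : E * E = E) (hFt : F'.trace = 1) (h : lam i E * lam j F' = s • (lam j F' * lam i E)) :
    E * F' = F' * E := by
  have h1 := congrArg (fun X => (lam (-i) E * X).trace) h
  have hc : lam (-i) E * lam i E = 1 := mul_eq_one_comm.1 (lam_inv hi hE)
  simp only [← mul_assoc, hc, one_mul, mul_smul_comm, Matrix.trace_smul] at h1
  rw [Matrix.trace_mul_cycle, lam_inv hi hE, one_mul] at h1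
  have htr : (lam j F').trace = j - 1 := by
    simp [lam, Matrix.trace_add, Matrix.trace_smul, hFt]; ring
  rw [htr, smul_eq_mul] at h1
  have hj1 : j - 1 ≠ 0 := fun e => h2 (by rw [sub_eq_zero] at e; rw [e] at hj; linear_combination hj)
  have hs : s = 1 := (mul_eq_right₀ hj1).1 h1.symm
  rw [hs, one_smul, lam_mul, lam_mul] at h
  have hne : ∀ x : F, x * x = -1 → -1 - x ≠ 0 := fun x hx e => h2 (by
    rw [sub_eq_zero] at e; rw [← e] at hx; linear_combination hx)
  have h3 : ((-1 - i) * (-1 - j)) • (E * F') = ((-1 - i) * (-1 - j)) • (F' * E) := by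
    rw [mul_comm (-1 - j) (-1 - i), mul_comm j i, mul_comm j, mul_comm (-1 - j) i, add_right_comm ((i * j) • (1 : M2)) ((i * (-1 - j)) • F')] at h
    exact add_left_cancel h
  exact (smul_right_injective M2 (mul_ne_zero (hne i hi) (hne j hj))) h3

/-- An idempotent of rank one in the plane of the block. -/
structure InPlane (e : Matrix (Fin 3) (Fin 3) F) : Prop where
  split : Split e
  zero : e 0 0 = 0
  idem : e * e = e
  tr : e.trace = 1

theorem InPlane.blk_idem {e : M3} (h : InPlane e) : blk e * blk e = blk e := by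
  rw [← Split.blk_mul h.split h.split, h.idem]

theorem InPlane.blk_tr {e : M3} (h : InPlane e) : (blk e).trace = 1 := by
  have := h.tr
  rw [Matrix.trace_fin_three, h.zero, zero_add] at this
  rw [Matrix.trace_fin_two]; simpa [blk] using this

theorem InPlane.lam_split {e : M3} (h : InPlane e) (i : F) : Split (lam i e) ∧ blk (lam i e) = lam i (blk e) := by
  obtain ⟨⟨a, b, c, d⟩, -, -, -⟩ := h
  refine ⟨by simp [Split, lam, a, b, c, d], ?_⟩
  ext x y
  fin_cases x <;> fin_cases y <;> simp [blk, lam]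

/-- The invariant of two homologies of order four in the centraliser of an involution. -/
theorem kappa_block {P : Subgroup G3} (h : Pre P) (h2 : (2 : F) ≠ 0) {i : F} (hi : i * i = -1) {e f : M3}
    (he : InPlane e) (hf : InPlane f) {a b : G3} (ha : a ∈ P) (hb : b ∈ P) (hea : a.1 = lam i e)
    (hfb : b.1 = lam i f) : e * f = f * e ∨ (2 * (e * f).trace = 1 ∧ (3 : F) ≠ 0) := by
  obtain ⟨p, hp⟩ := CharP.exists F
  haveI : Fact p.Prime := ⟨CharP.char_is_prime F p⟩
  have haS : Split a.1 := hea ▸ (he.lam_split i).1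
  have hbS : Split b.1 := hfb ▸ (hf.lam_split i).1
  set A := beta h2 ⟨a, haS⟩
  set B := beta h2 ⟨b, hbS⟩
  have hA : A.1 = lam i (blk e) := by rw [coe_beta]; rw [show blk a.1 = _ from congrArg blk hea]; exact (he.lam_split i).2
  have hB : B.1 = lam i (blk f) := by rw [coe_beta]; rw [show blk b.1 = _ from congrArg blk hfb]; exact (hf.lam_split i).2
  have hBi : (B⁻¹).1 = lam (-i) (blk f) := (left_inv_eq_right_inv (by rw [← Units.val_mul, inv_mul_cancel, Units.val_one])
    (hB ▸ lam_inv hi hf.blk_idem : B.1 * lam (-i) (blk f) = 1))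
  obtain ⟨facts, -⟩ := plane_facts (p := p) (h.noP h2)
  have four : ∀ (X : G2) (E : M2) (x : F), x * x = -1 → E * E = E → E.trace = 1 → X.1 = lam x E →
      IsScal (X * X * (X * X)) ∧ ¬ IsScal (X * X) := by
    intro X E x hx hE hEt hX
    have e2 : (X * X).1 = (-1 : F) • (1 : M2) + (2 : F) • E := by rw [Units.val_mul, hX, lam_sq hx hE]
    refine ⟨⟨1, ?_⟩, fun ⟨c, hc⟩ => ?_⟩
    · rw [Units.val_mul, e2, one_smul]
      simp only [add_mul, mul_add, smul_mul_assoc, mul_smul_comm, one_mul, mul_one, smul_smul, hE]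
      module
    · rw [e2] at hc
      have hEs : E = ((c + 1) / 2) • (1 : M2) := by
        have : (2 : F) • E = (c + 1) • (1 : M2) := by rw [add_smul, ← hc]; module
        rw [div_eq_inv_mul, mul_smul, ← this, smul_smul, inv_mul_cancel₀ h2, one_smul]
      rw [hEs] at hE hEt
      set d := (c + 1) / 2
      simp at hEt
      have hd : d * d = d := by simpa using congrFun (congrFun hE 0) 0
      rcases (mul_eq_zero.1 (by linear_combination hd : d * (d - 1) = 0)) with h0 | h0
      · rw [h0] at hEt; simp at hEt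
      · rw [sub_eq_zero] at h0; rw [h0] at hEt; exact one_ne_zero (α := F) (by linear_combination hEt)
  have hAm : ∀ X : G2, X ∈ Subgroup.zpowers B → X ∈ (P.subgroupOf (Cz h2)).map (beta h2) := fun X hX =>
    Subgroup.zpowers_le.2 (⟨⟨b, hbS⟩, hb, rfl⟩ : B ∈ (P.subgroupOf (Cz h2)).map (beta h2)) hX
  have use : ∀ (X : G2) (x : F), X ∈ Subgroup.zpowers B → x * x = -1 → X.1 = lam x (blk f) →
      blk e * blk f = blk f * blk e ∨
        ((lam i (blk e) * lam x (blk f)).trace * (lam i (blk e) * lam x (blk f)).trace = (-i) * (-x) ∧ p ≠ 3) := by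
    intro X x hX hx hXe
    rcases facts A ⟨⟨a, haS⟩, ha, rfl⟩ X (hAm X hX) (four A _ i hi he.blk_idem he.blk_tr hA).1
      (four A _ i hi he.blk_idem he.blk_tr hA).2 (four X _ x hx hf.blk_idem hf.blk_tr hXe).1
      (four X _ x hx hf.blk_idem hf.blk_tr hXe).2 with ⟨s, hs⟩ | ⟨⟨c, hc⟩, hp3⟩
    · left
      refine comm_of_scal h2 hi hx he.blk_idem hf.blk_tr (s := s) ?_
      rw [← hA, ← hXe, ← Units.val_mul, ← Units.val_mul, show A * X = ⁅A, X⁆ * (X * A) by group, Units.val_mul, hs,
        smul_mul_assoc, one_mul]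
    · simp only [Units.val_mul, hA, hXe] at hc
      rcases cube_scalar hc with ⟨m, hm⟩ | hd
      · left
        refine comm_of_scal h2 hi hx he.blk_idem hf.blk_tr (s := 1) ?_
        rw [one_smul]
        have hxe : lam x (blk f) = m • lam (-i) (blk e) := by
          calc lam x (blk f) = lam (-i) (blk e) * (lam i (blk e) * lam x (blk f)) := by
                rw [← mul_assoc, mul_eq_one_comm.1 (lam_inv hi he.blk_idem), one_mul]
            _ = m • lam (-i) (blk e) := by rw [hm, mul_smul_comm, mul_one]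
        rw [hm, hxe, smul_mul_assoc, mul_eq_one_comm.1 (lam_inv hi he.blk_idem)]
      · right
        rw [Matrix.det_mul, det_lam hi he.blk_idem he.blk_tr, det_lam hx hf.blk_idem hf.blk_tr] at hd
        exact ⟨hd, hp3⟩
  have hfin : blk e * blk f = blk f * blk e → e * f = f * e := fun hc =>
    Split.ext (he.split.mul hf.split) (hf.split.mul he.split)
      (by rw [Split.mul_zero_zero he.split, Split.mul_zero_zero hf.split, he.zero, hf.zero])
      (by rw [Split.blk_mul he.split hf.split, Split.blk_mul hf.split he.split, hc])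
  rcases use B i (Subgroup.mem_zpowers _) hi hB with hc | ⟨q1, hp3⟩
  · exact Or.inl (hfin hc)
  rcases use B⁻¹ (-i) (inv_mem (Subgroup.mem_zpowers _)) (by rw [neg_mul_neg, hi]) hBi with hc | ⟨q2, -⟩
  · exact Or.inl (hfin hc)
  right
  have hκ : (blk e * blk f).trace = (e * f).trace := by
    rw [← Split.blk_mul he.split hf.split, Matrix.trace_fin_three (e * f), Split.mul_zero_zero he.split, he.zero,
      zero_mul, zero_add, Matrix.trace_fin_two]
    simp [blk]
  rw [trace_lam_mul he.blk_tr hf.blk_tr, hκ] at q1 q2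
  set κ := (e * f).trace
  have a1 : 4 * (κ - 1) * (κ - 1) = 1 := by grind
  have a2 : 4 * κ * κ = 1 := by grind
  refine ⟨mul_left_cancel₀ h2 (mul_left_cancel₀ h2 (by linear_combination a2 - a1)), fun h3 => hp3 ?_⟩
  have hdvd : p ∣ 3 := (CharP.cast_eq_zero_iff F p 3).1 (by exact_mod_cast h3)
  exact (Nat.prime_dvd_prime_iff_eq Fact.out Nat.prime_three).1 hdvd

/-- The invariant of two arbitrary homologies of order four. -/
theorem kappa_free {P : Subgroup G3} (h : Pre P) (h2 : (2 : F) ≠ 0) {i : F} (hi : i * i = -1)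
    {u φ w ψ : Fin 3 → F} (hu : φ ⬝ᵥ u = 1) (hw : ψ ⬝ᵥ w = 1)
    (hk0 : (φ ⬝ᵥ w) * (ψ ⬝ᵥ u) ≠ 0) (hk1 : (φ ⬝ᵥ w) * (ψ ⬝ᵥ u) ≠ 1)
    {a b : G3} (ha : a ∈ P) (hb : b ∈ P) (hea : a.1 = lam i (vecMulVec u φ)) (hfb : b.1 = lam i (vecMulVec w ψ)) :
    2 * ((φ ⬝ᵥ w) * (ψ ⬝ᵥ u)) = 1 ∧ (3 : F) ≠ 0 := by
  set x := φ ⬝ᵥ w with hx
  set y := ψ ⬝ᵥ u with hy
  let T : M3 := !![φ 1 * ψ 2 - φ 2 * ψ 1, u 0, w 0; φ 2 * ψ 0 - φ 0 * ψ 2, u 1, w 1; φ 0 * ψ 1 - φ 1 * ψ 0, u 2, w 2]
  simp only [dotProduct, Fin.sum_univ_three] at hu hw hx hy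
  have hdet : T.det = 1 - x * y := by
    rw [Matrix.det_fin_three, hx, hy]
    simp [T]
    linear_combination (ψ 0 * w 0 + ψ 1 * w 1 + ψ 2 * w 2) * hu + hw
  let E' : M3 := !![0, 0, 0; 0, 1, x; 0, 0, 0]
  let F' : M3 := !![0, 0, 0; 0, 0, 0; 0, y, 1]
  have hTe : vecMulVec u φ * T = T * E' := by
    ext r s
    fin_cases r <;> fin_cases s <;>
      simp [T, E', Matrix.mul_apply, Fin.sum_univ_three, Matrix.vecMulVec_apply] <;>
      first
      | ring1
      | linear_combination (u 0) * hu
      | linear_combination (u 1) * hu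
      | linear_combination (u 2) * hu
      | linear_combination -(u 0) * hx
      | linear_combination -(u 1) * hx
      | linear_combination -(u 2) * hx
  have hTf : vecMulVec w ψ * T = T * F' := by
    ext r s
    fin_cases r <;> fin_cases s <;>
      simp [T, F', Matrix.mul_apply, Fin.sum_univ_three, Matrix.vecMulVec_apply] <;>
      first
      | ring1
      | linear_combination (w 0) * hw
      | linear_combination (w 1) * hw
      | linear_combination (w 2) * hw
      | linear_combination -(w 0) * hy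
      | linear_combination -(w 1) * hy
      | linear_combination -(w 2) * hy
  obtain ⟨U, hU⟩ : ∃ U : G3, U.1 = T :=
    ⟨Matrix.GeneralLinearGroup.mk'' T (by rw [hdet, isUnit_iff_ne_zero, sub_ne_zero]; exact hk1.symm), rfl⟩
  have conj : ∀ (g : G3) (e e' : M3), g.1 = lam i e → e * T = T * e' → (U⁻¹ * g * U).1 = lam i e' := by
    intro g e e' hg he
    rw [Units.val_mul, Units.val_mul, hg, hU, mul_assoc,
      show lam i e * T = T * lam i e' by
        simp only [lam, add_mul, mul_add, smul_mul_assoc, mul_smul_comm, one_mul, mul_one, he],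
      ← hU, ← mul_assoc, U.inv_mul, one_mul]
  have hm : ∀ g ∈ P, U⁻¹ * g * U ∈ conjP U⁻¹ P := fun g hg => mem_conjP.2 (by simpa [mul_assoc] using hg)
  have hE : InPlane E' := ⟨by simp [Split, E'], by simp [E'],
    by ext r s; fin_cases r <;> fin_cases s <;> simp [E', Matrix.mul_apply, Fin.sum_univ_three],
    by simp [E', Matrix.trace_fin_three]⟩
  have hF : InPlane F' := ⟨by simp [Split, F'], by simp [F'],
    by ext r s; fin_cases r <;> fin_cases s <;> simp [F', Matrix.mul_apply, Fin.sum_univ_three],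
    by simp [F', Matrix.trace_fin_three]⟩
  rcases kappa_block (h.conj U⁻¹) h2 hi hE hF (hm a ha) (hm b hb) (conj a _ _ hea hTe) (conj b _ _ hfb hTf) with
    hc | ⟨h1, h3⟩
  · refine absurd ?_ hk0
    have := congrFun (congrFun hc 1) 1
    simpa [E', F', Matrix.mul_apply, Fin.sum_univ_three] using this
  · refine ⟨?_, h3⟩
    rw [show (E' * F').trace = x * y by
      simp [E', F', Matrix.trace_fin_three, Matrix.mul_apply, Fin.sum_univ_three]] at h1
    exact h1

end CfsgLib.ResThree
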