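import Cfsg.Agent.Lib.MaxSub.ResThree.Setup
import Cfsg.Agent.Lib.MaxSub.ResThree.NoTv.Cent
import Cfsg.Agent.Lib.GW.Final
import Cfsg.Agent.Lib.GW.Conseq.QDCentre.Main
import Cfsg.Agent.Lib.UnitaryFourSylow
import Cfsg.Agent.Lib.SuborbitGroups.SDCore
import Cfsg.Agent.Lib.InvPattern.Basic
import Cfsg.Agent.Lib.QDWreathedNoIndexTwo.Main
import Cfsg.Agent.Lib.AfterFT.DihedralSquare.Movers
import Cfsg.Agent.S0516
import Cfsg.Agent.S2916

/-!
Without transvections, in odd characteristic, the Sylow two-subgroups are dihedral.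
-/

set_option autoImplicit false
set_option linter.unusedSectionVars false
set_option linter.style.haveILetI false
set_option maxHeartbeats 800000

namespace CfsgLib.ResThree

open Matrix Cfsg
open scoped commutatorElement

universe u

variable {F : Type u} [Field F] [Finite F]

local notation "G3" => Matrix.GeneralLinearGroup (Fin 3) F
local notation "M3" => Matrix (Fin 3) (Fin 3) F
local notation "Zs" => Cfsg.Geo.scalars (Fin 3) F

variable {P : Subgroup (Matrix.GeneralLinearGroup (Fin 3) F)}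

/-- The quotient map modulo scalars. -/
abbrev piZ (P : Subgroup (Matrix.GeneralLinearGroup (Fin 3) F)) :
    P →* P ⧸ (Cfsg.Geo.scalars (Fin 3) F).subgroupOf P :=
  QuotientGroup.mk' _

theorem Core.pre (hP : Core P) (ht : ¬ HasTransvection P) : Pre P := ⟨fun _ hg => hP.det_eq hg, ht⟩

theorem Core.scalar_comm (hP : Core P) {z : P} (hz : z ∈ Subgroup.subgroupOf Zs P) (g : P) : g * z = z * g :=
  Subgroup.mem_center_iff.1 (scalar_mem_center P hz) g

theorem Core.eq_one_of_sq (hP : Core P) {z : P} (hz : z ∈ Subgroup.subgroupOf Zs P) (h : z * z = 1) : z = 1 := by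
  have h3 := hP.pow_three_of_scalar hz
  rwa [pow_succ, pow_two, h, one_mul] at h3

theorem Core.lift_sq (hP : Core P) (e : P ⧸ Subgroup.subgroupOf Zs P) (he : e * e = 1) :
    ∃ x : P, piZ P x = e ∧ x * x = 1 := by
  obtain ⟨x, rfl⟩ := QuotientGroup.mk'_surjective _ e
  refine ⟨x ^ 3, by rw [map_pow, pow_succ, pow_two, he, one_mul], ?_⟩
  rw [← pow_two, ← pow_mul, mul_comm, pow_mul, pow_two]
  refine hP.pow_three_of_scalar ((QuotientGroup.eq_one_iff _).1 ?_)
  show piZ P (x * x) = 1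
  rw [map_mul, he]

theorem Core.comm_lift (hP : Core P) {x g : P} (hx : x * x = 1) (h : piZ P g * piZ P x = piZ P x * piZ P g) :
    g * x = x * g := by
  set z := g * x * g⁻¹ * x⁻¹ with hzdef
  have hz : z ∈ Subgroup.subgroupOf Zs P := (QuotientGroup.eq_one_iff _).1 (by
    show piZ P z = 1
    rw [hzdef, map_mul, map_mul, map_mul, h, map_inv, map_inv, mul_inv_cancel_right, mul_inv_cancel])
  have hzx : g * x * g⁻¹ = z * x := by rw [hzdef]; group
  have h1 : z * x * (z * x) = 1 := by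
    rw [← hzx]
    calc g * x * g⁻¹ * (g * x * g⁻¹) = g * (x * x) * g⁻¹ := by group
      _ = 1 := by rw [hx]; group
  have h2 : z = 1 := hP.eq_one_of_sq hz (by
    rw [mul_assoc, ← mul_assoc x, hP.scalar_comm hz x, mul_assoc z x, hx, mul_one] at h1
    exact h1)
  rw [h2, one_mul] at hzx
  calc g * x = g * x * g⁻¹ * g := by group
    _ = x * g := by rw [hzx]

theorem Core.comm_of_image (hP : Core P) {a b : P} (ha : a * a = 1) (h : piZ P a * piZ P b = piZ P b * piZ P a) :
    (a : G3) * b = (b : G3) * a :=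
  congrArg Subtype.val (hP.comm_lift ha h.symm).symm

theorem coe_sq {a : P} (h : a * a = 1) : (a : G3) * a = 1 := congrArg Subtype.val h

theorem coe_ne_one {a : P} {e : P ⧸ Subgroup.subgroupOf Zs P} (h : piZ P a = e) (he : e ≠ 1) : (a : G3) ≠ 1 :=
  fun h1 => he (by rw [← h, show a = 1 from Subtype.ext h1, map_one])

theorem Core.rank (hP : Core P) (h2 : (2 : F) ≠ 0) : PRankLE 2 2 (P ⧸ Subgroup.subgroupOf Zs P) := by
  intro E hE hsq
  classical
  haveI := Fintype.ofFinite E
  choose f hf hf2 using fun e : E => hP.lift_sq (e : P ⧸ Subgroup.subgroupOf Zs P)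
    (by rw [← pow_two]; exact hsq _ e.2)
  have hcomm : ∀ e e' : E, (f e).1.1 * (f e').1.1 = (f e').1.1 * (f e).1.1 := fun e e' => by
    have := hP.comm_of_image (hf2 e) (b := f e') (by
      rw [hf, hf]; exact congrArg Subtype.val (hE.is_comm.comm e e'))
    exact congrArg Units.val this
  obtain ⟨T, s, hs, hfs⟩ := InvolutionDiag.exists_diag h2 (fun e : E => (f e).1.1)
    (fun e => congrArg Units.val (coe_sq (hf2 e))) hcomm
  have hdet : ∀ e, s e 0 * s e 1 * s e 2 = 1 := fun e => by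
    have h := congrArg Matrix.det (hfs e)
    rw [hP.det_eq (f e).2, Matrix.det_mul, Matrix.det_mul, Matrix.det_diagonal, Fin.prod_univ_three] at h
    have hT : T.1.det * (T⁻¹).1.det = 1 := by rw [← Matrix.det_mul, T.mul_inv, Matrix.det_one]
    linear_combination -h - (s e 0 * s e 1 * s e 2) * hT
  rw [Nat.card_eq_fintype_card]
  refine (Fintype.card_le_of_injective (fun e : E => (decide (s e 0 = 1), decide (s e 1 = 1))) ?_).trans (by simp)
  intro e e' he
  simp only [Prod.mk.injEq, decide_eq_decide] at he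
  have hk : ∀ k : Fin 3, (s e k = 1 ↔ s e' k = 1) → s e k = s e' k := fun k h => by
    rcases hs e k with a | a <;> rcases hs e' k with b | b <;> rw [a, b] at h ⊢
    · exact (h.1 rfl).symm
    · exact h.2 rfl
  have h0 := hk 0 he.1
  have h1 := hk 1 he.2
  have h01 : s e 0 * s e 1 ≠ 0 := fun h => by
    have := hdet e
    rw [h, zero_mul] at this
    exact zero_ne_one this
  have h22 : s e 2 = s e' 2 := mul_left_cancel₀ h01 (by rw [hdet e, h0, h1, hdet e'])
  have hse : s e = s e' := funext fun k => by fin_cases k <;> assumption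
  have : f e = f e' := Subtype.ext (Units.ext (by rw [hfs e, hfs e', hse]))
  exact Subtype.ext (by rw [← hf e, ← hf e', this])

theorem Core.centRich (hP : Core P) (S : Sylow 2 P)
    (hS : IsQuasiDihedral (S : Subgroup P) ∨ IsWreathed (S : Subgroup P)) : CentRich P := by
  intro t htP ht2 ht1
  haveI := hP.isPerfect
  haveI : Fact (Nat.Prime 2) := ⟨Nat.prime_two⟩
  set tp : P := ⟨t, htP⟩
  have hto : orderOf tp = 2 := orderOf_eq_prime (Subtype.ext (by rw [pow_two]; exact ht2))
    (fun e => ht1 (congrArg Subtype.val e))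
  set C := Subgroup.centralizer ({tp} : Set P)
  obtain ⟨F0, hF0, hF0', -, ⟨e⟩⟩ : ∃ (F0 : Type) (_ : Field F0) (_ : Fintype F0), Odd (Fintype.card F0) ∧
      Nonempty (↥(commutator (↥C ⧸ oddCore ↥C)) ≃* Matrix.SpecialLinearGroup (Fin 2) F0) :=
    CfsgLib.GWConseq.QDCentre.centralizer_sl CfsgLib.GW.gwThm.{u} S hS hP.index_ne_two tp hto
  letI := hF0
  letI := hF0'
  let π := QuotientGroup.mk' (oddCore ↥C)
  have hlift : ∀ s : Matrix.SpecialLinearGroup (Fin 2) F0, ∃ c ∈ commutator C,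
      π c = ((e.symm s : commutator (↥C ⧸ oddCore ↥C)) : ↥C ⧸ oddCore ↥C) := fun s => by
    have h1 : ((e.symm s : commutator (↥C ⧸ oddCore ↥C)) : ↥C ⧸ oddCore ↥C) ∈ (commutator C).map π := by
      rw [commutator_def, Subgroup.map_commutator, ← MonoidHom.range_eq_map,
        MonoidHom.range_eq_top.2 (QuotientGroup.mk'_surjective _), ← commutator_def]
      exact (e.symm s).2
    obtain ⟨c, hc, hce⟩ := h1
    exact ⟨c, hc, hce⟩
  let U : Matrix.SpecialLinearGroup (Fin 2) F0 := ⟨!![1, 1; 0, 1], by simp [Matrix.det_fin_two]⟩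
  let V : Matrix.SpecialLinearGroup (Fin 2) F0 := ⟨!![1, 0; 1, 1], by simp [Matrix.det_fin_two]⟩
  have hUV : ⁅U, V⁆ * U ≠ U * ⁅U, V⁆ := by
    intro h1
    have h2 := congrFun (congrFun (congrArg Subtype.val h1) 0) 0
    simp only [commutatorElement_def, Matrix.SpecialLinearGroup.coe_mul, Matrix.SpecialLinearGroup.coe_inv] at h2
    simp [U, V, Matrix.adjugate_fin_two, Matrix.mul_apply, Fin.sum_univ_two] at h2
  obtain ⟨cu, hcu, hcu'⟩ := hlift U
  obtain ⟨cv, hcv, hcv'⟩ := hlift V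
  let ι0 : C →* G3 := P.subtype.comp C.subtype
  have hι0 : ∀ c : C, ι0 c ∈ P ⊓ Subgroup.centralizer {t} := fun c => ⟨(c : P).2,
    Subgroup.mem_centralizer_singleton_iff.2 (congrArg Subtype.val (Subgroup.mem_centralizer_singleton_iff.1 c.2))⟩
  have hι0i : Function.Injective ι0 := P.subtype_injective.comp C.subtype_injective
  have hmem : ∀ c ∈ commutator C, ι0 c ∈ ⁅P ⊓ Subgroup.centralizer {t}, P ⊓ Subgroup.centralizer {t}⁆ := fun c hc => by
    have h1 : ι0 c ∈ (commutator C).map ι0 := ⟨c, hc, rfl⟩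
    rw [commutator_def, Subgroup.map_commutator] at h1
    exact Subgroup.commutator_mono (by rintro _ ⟨y, -, rfl⟩; exact hι0 y)
      (by rintro _ ⟨y, -, rfl⟩; exact hι0 y) h1
  refine ⟨_, hmem _ hcu, _, hmem _ hcv, fun e1 => hUV ?_⟩
  rw [← map_commutatorElement, ← map_mul, ← map_mul] at e1
  have e2 := congrArg π (hι0i e1)
  rw [map_mul, map_mul, map_commutatorElement, hcu', hcv'] at e2
  refine e.symm.injective (Subtype.ext ?_)
  rw [map_mul, map_mul, map_commutatorElement]
  exact e2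

/-- A Sylow two-subgroup of `P` is isomorphic to its image. -/
theorem Core.sylow_image (hP : Core P) (S : Sylow 2 P) :
    ∃ (S' : Sylow 2 (P ⧸ Subgroup.subgroupOf Zs P)), Nonempty ((S : Subgroup P) ≃* (S' : Subgroup (P ⧸ Subgroup.subgroupOf Zs P))) := by
  haveI : Fact (Nat.Prime 2) := ⟨Nat.prime_two⟩
  refine ⟨S.mapSurjective (QuotientGroup.mk'_surjective _), ⟨?_⟩⟩
  have hinj : Function.Injective ((piZ P).comp (S : Subgroup P).subtype) := by
    rw [← MonoidHom.ker_eq_bot_iff, eq_bot_iff]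
    intro s hs
    rw [Subgroup.mem_bot]
    obtain ⟨k, hk⟩ := S.2 s
    have hz := hP.pow_three_of_scalar ((QuotientGroup.eq_one_iff (s : P)).1 hs)
    have hcop : Nat.Coprime (2 ^ k) 3 := Nat.Coprime.pow_left _ (by norm_num)
    exact orderOf_eq_one_iff.1 (Nat.eq_one_of_dvd_coprimes hcop (orderOf_dvd_of_pow_eq_one hk)
      (orderOf_dvd_of_pow_eq_one (Subtype.ext hz)))
  exact (MonoidHom.ofInjective hinj).trans (MulEquiv.subgroupCongr (by
    rw [MonoidHom.range_comp, Subgroup.range_subtype]; rfl))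

theorem Core.no_unitary (hP : Core P) (h2 : (2 : F) ≠ 0) (S : Sylow 2 (P ⧸ Subgroup.subgroupOf Zs P))
    {K : Type} [Field K] [Fintype K] (h16 : Fintype.card K = 16) (Q : Sylow 2 (Cfsg.PSU 3 K 4))
    (e : (S : Subgroup (P ⧸ Subgroup.subgroupOf Zs P)) ≃* (Q : Subgroup (Cfsg.PSU 3 K 4))) : False := by
  classical
  obtain ⟨-, hK, -, -, hq, -⟩ := CfsgLib.UnitaryFour.main h16 Q
  set Z := Subgroup.center (Q : Subgroup (Cfsg.PSU 3 K 4))
  haveI := Fintype.ofFinite Z
  have h4 : Fintype.card Z = 4 := by rw [← Nat.card_eq_fintype_card]; exact hK.card_four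
  obtain ⟨a, ha⟩ := Fintype.exists_ne_of_one_lt_card (by omega) (1 : Z)
  obtain ⟨b, hb⟩ : ∃ b : Z, b ∉ ({1, a} : Finset Z) := by
    by_contra hcon
    push Not at hcon
    have := Finset.card_le_card (s := (Finset.univ : Finset Z)) (t := {1, a}) fun x _ => hcon x
    rw [Finset.card_univ, h4] at this
    have h2 : ({1, a} : Finset Z).card ≤ 2 := Finset.card_le_two
    omega
  simp only [Finset.mem_insert, Finset.mem_singleton, not_or] at hb
  let f : Z → P ⧸ Subgroup.subgroupOf Zs P := fun z => (e.symm z.1).1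
  have hfi : Function.Injective f := fun x y hxy => Subtype.ext (e.symm.injective (Subtype.ext hxy))
  have hf1 : f 1 = 1 := by simp [f]
  have hsq : ∀ z : Z, f z * f z = 1 := fun z => by
    have h1 := Monoid.pow_exponent_eq_one z
    rw [hK.exponent_two, pow_two] at h1
    have := congrArg f h1
    simpa [f] using this
  have hcent : ∀ (z : Z) (s : (S : Subgroup (P ⧸ Subgroup.subgroupOf Zs P))), f z * s.1 = s.1 * f z := fun z s => by
    have h1 : e.symm z * s = s * e.symm z := e.injective (by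
      rw [map_mul, map_mul, MulEquiv.apply_symm_apply]
      exact (Subgroup.mem_center_iff.1 z.2 (e s)).symm)
    exact congrArg Subtype.val h1
  obtain ⟨A, hA, hA2⟩ := hP.lift_sq (f a) (hsq a)
  obtain ⟨B, hB, hB2⟩ := hP.lift_sq (f b) (hsq b)
  have hfa : f a ≠ 1 := fun h1 => ha (hfi (h1.trans hf1.symm))
  have hfb : f b ≠ 1 := fun h1 => hb.1 (hfi (h1.trans hf1.symm))
  have hab : (A : G3) ≠ B := fun h => hb.2 (hfi (by rw [← hA, ← hB, Subtype.ext h])).symm
  have hS : ∀ x y : (S : Subgroup (P ⧸ Subgroup.subgroupOf Zs P)), x * y = y * x := fun x y => by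
    obtain ⟨X, hX⟩ := QuotientGroup.mk'_surjective _ x.1
    obtain ⟨Y, hY⟩ := QuotientGroup.mk'_surjective _ y.1
    have hXY : (X : G3) * Y = (Y : G3) * X := abelian_cent h2 (coe_sq hA2) (coe_sq hB2) (coe_ne_one hA hfa)
      (coe_ne_one hB hfb) hab (hP.det_eq A.2) (hP.det_eq B.2)
      (hP.comm_of_image hA2 (by
        rw [hA, hB]; exact hcent a (e.symm b)))
      (congrArg Subtype.val (hP.comm_lift hA2 (by rw [hA]; exact hX ▸ (hcent a x).symm)))
      (congrArg Subtype.val (hP.comm_lift hB2 (by rw [hB]; exact hX ▸ (hcent b x).symm)))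
      (congrArg Subtype.val (hP.comm_lift hA2 (by rw [hA]; exact hY ▸ (hcent a y).symm)))
      (congrArg Subtype.val (hP.comm_lift hB2 (by rw [hB]; exact hY ▸ (hcent b y).symm)))
    refine Subtype.ext ?_
    rw [Subgroup.coe_mul, Subgroup.coe_mul, ← hX, ← hY, ← map_mul, ← map_mul]
    exact congrArg _ (Subtype.ext hXY)
  have hZ : Z = ⊤ := eq_top_iff.2 fun x _ => Subgroup.mem_center_iff.2 fun y => e.symm.injective (by
    rw [map_mul, map_mul, hS])
  have h1 : Nat.card ((Q : Subgroup (Cfsg.PSU 3 K 4)) ⧸ Z) = 1 := by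
    rw [← Subgroup.index_eq_card, hZ, Subgroup.index_top]
  omega

theorem Core.no_wreathed (hP : Core P) (h2 : (2 : F) ≠ 0) (ht : ¬ HasTransvection P) (S : Sylow 2 P)
    (hS : IsWreathed (S : Subgroup P)) : False := by
  classical
  obtain ⟨n, hn, -, d, hdh⟩ := CfsgLib.Wr.exists_data hS
  obtain ⟨h', hh⟩ : 2 ∣ d.h := by
    rw [hdh]; exact dvd_pow_self 2 (by omega)
  have hh0 : 0 < h' := by have := d.h2; omega
  set X : (S : Subgroup P) := d.x ^ h' with hX
  set Y : (S : Subgroup P) := d.y ^ h' with hY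
  have hy : orderOf d.y = 2 * d.h := by
    rw [← d.hzx, show d.z * d.x * d.z⁻¹ = MulAut.conj d.z d.x from rfl, MulEquiv.orderOf_eq, d.hx]
  have ho : ∀ w : (S : Subgroup P), orderOf w = 2 * d.h → orderOf (w ^ h') = 4 := fun w hw => by
    rw [orderOf_pow, hw, hh, show 2 * (2 * h') = h' * 4 by ring, Nat.gcd_eq_right (dvd_mul_right h' 4), Nat.mul_div_cancel_left _ hh0]
  have hX4 : orderOf X = 4 := ho _ d.hx
  have hY4 : orderOf Y = 4 := ho _ hy
  have hXY : X * Y = Y * X := (show Commute d.x d.y from d.hc).pow_pow h' h'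
  have hinj : ∀ m l m' l' : Fin 4, X ^ (m : ℕ) * Y ^ (l : ℕ) = X ^ (m' : ℕ) * Y ^ (l' : ℕ) → m = m' ∧ l = l' := by
    intro m l m' l' e
    have e' : (X ^ (m' : ℕ))⁻¹ * X ^ (m : ℕ) = Y ^ (l' : ℕ) * (Y ^ (l : ℕ))⁻¹ := by
      rw [eq_mul_inv_iff_mul_eq, mul_assoc, e, inv_mul_cancel_left]
    have hmem : (X ^ (m' : ℕ))⁻¹ * X ^ (m : ℕ) ∈ Subgroup.zpowers d.x ⊓ Subgroup.zpowers d.y := by
      have mx : X ∈ Subgroup.zpowers d.x := Subgroup.pow_mem _ (Subgroup.mem_zpowers d.x) h'
      have my : Y ∈ Subgroup.zpowers d.y := Subgroup.pow_mem _ (Subgroup.mem_zpowers d.y) h'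
      refine Subgroup.mem_inf.2 ⟨Subgroup.mul_mem _ (Subgroup.inv_mem _ (Subgroup.pow_mem _ mx _))
        (Subgroup.pow_mem _ mx _), ?_⟩
      rw [e']
      exact Subgroup.mul_mem _ (Subgroup.pow_mem _ my _) (Subgroup.inv_mem _ (Subgroup.pow_mem _ my _))
    rw [d.hd, Subgroup.mem_bot] at hmem
    have h1 : X ^ (m' : ℕ) = X ^ (m : ℕ) := inv_mul_eq_one.1 hmem
    have h2 : Y ^ (l' : ℕ) = Y ^ (l : ℕ) := by rw [hmem] at e'; exact mul_inv_eq_one.1 e'.symm
    rw [pow_eq_pow_iff_modEq, hX4] at h1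
    rw [pow_eq_pow_iff_modEq, hY4] at h2
    exact ⟨Fin.ext (by unfold Nat.ModEq at h1; omega), Fin.ext (by unfold Nat.ModEq at h2; omega)⟩
  clear_value X Y
  let G : (S : Subgroup P) →* G3 := P.subtype.comp (S : Subgroup P).subtype
  have hG : Function.Injective G := P.subtype_injective.comp (S : Subgroup P).subtype_injective
  have hGm : ∀ s, G s ∈ P := fun s => (s : P).2
  set t := G (X * X)
  set j := G (Y * Y)
  have hsq : ∀ w : (S : Subgroup P), orderOf w = 4 → G (w * w) * G (w * w) = 1 ∧ G (w * w) ≠ 1 := fun w hw => by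
    refine ⟨?_, fun e => ?_⟩
    · rw [← map_mul, show w * w * (w * w) = w ^ 4 by rw [show (4 : ℕ) = 2 * 2 from rfl, pow_mul, pow_two, pow_two],
        ← hw, pow_orderOf_eq_one, map_one]
    · have : w ^ 2 = 1 := hG (by rw [pow_two, e, map_one])
      have := orderOf_dvd_of_pow_eq_one this
      rw [hw] at this
      norm_num at this
  have htj : t ≠ j := fun e => by
    have := hinj 2 0 0 2 (hG (by simpa [pow_two, t, j] using e))
    exact absurd this.1 (by decide)
  have htj' : t * j = j * t := by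
    simp only [t, j, ← map_mul]
    rw [show X * X * (Y * Y) = Y * Y * (X * X) from
      ((show Commute X Y from hXY).mul_left hXY).mul_right ((show Commute X Y from hXY).mul_left hXY)]
  obtain ⟨T, s, hs, hts⟩ := InvolutionDiag.exists_diag h2 (fun k : Bool => if k then t.1 else j.1)
    (fun k => by cases k <;> simp <;> [exact congrArg Units.val (hsq Y hY4).1; exact congrArg Units.val (hsq X hX4).1])
    (fun k k' => by cases k <;> cases k' <;> simp <;> [exact congrArg Units.val htj'.symm; exact congrArg Units.val htj'])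
  have hdet : ∀ k, s k 0 * s k 1 * s k 2 = 1 := fun k => by
    have h := congrArg Matrix.det (hts k)
    rw [Matrix.det_mul, Matrix.det_mul, Matrix.det_diagonal, Fin.prod_univ_three] at h
    have hT : T.1.det * (T⁻¹).1.det = 1 := by rw [← Matrix.det_mul, T.mul_inv, Matrix.det_one]
    have hd : (if k then t.1 else j.1).det = 1 := by cases k <;> exact hP.det_eq (hGm _)
    linear_combination -h - (s k 0 * s k 1 * s k 2) * hT + hd
  have hmat : ∀ k, (T⁻¹ * (if k then t else j) * T).1 = diagonal (s k) := fun k => by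
    rw [Units.val_mul, Units.val_mul, show (if k then t else j).1 = if k then t.1 else j.1 by cases k <;> rfl, hts k,
      ← mul_assoc, ← mul_assoc, T.inv_mul, one_mul, mul_assoc, T.inv_mul, mul_one]
  have hsep : ∀ a b : Fin 3, a ≠ b → ∃ k, s k a ≠ s k b := by
    have hne1 : ∀ k, s k ≠ 1 := fun k e => by
      have h1 : (if k then t else j) = 1 := by
        have := hmat k
        rw [e, show (1 : Fin 3 → F) = fun _ => 1 from rfl, Matrix.diagonal_one] at this
        have h2 : T⁻¹ * (if k then t else j) * T = 1 := Units.ext this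
        rw [mul_eq_one_iff_eq_inv, inv_mul_eq_iff_eq_mul, mul_inv_cancel] at h2
        exact h2
      cases k
      · exact (hsq Y hY4).2 h1
      · exact (hsq X hX4).2 h1
    have hne : s true ≠ s false := fun e => htj (mul_left_cancel (mul_right_cancel (Units.ext
      (((hmat true).trans (by rw [e])).trans (hmat false).symm))))
    intro a b hab
    by_contra hcon
    push Not at hcon
    have third : ∀ a b : Fin 3, a ≠ b → ∃ c : Fin 3, c ≠ a ∧ c ≠ b ∧ ∀ r, r = a ∨ r = b ∨ r = c := by decide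
    obtain ⟨c, hca, hcb, hall⟩ := third a b hab
    have hval : ∀ k, s k a = -1 ∧ s k b = -1 ∧ s k c = 1 := fun k => by
      have hp : s k a * s k b * s k c = 1 := by
        have huniv : (Finset.univ : Finset (Fin 3)) = {a, b, c} := Finset.ext fun r => by simpa using hall r
        rw [← hdet k, ← Fin.prod_univ_three, huniv, Finset.prod_insert (by simp [hab, hca.symm]),
          Finset.prod_pair hcb.symm, mul_assoc]
      have hsq : s k a * s k a = 1 := by rcases hs k a with e | e <;> rw [e] <;> ring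
      rw [← hcon k, hsq, one_mul] at hp
      rcases hs k a with e | e
      · refine absurd (funext fun r => ?_) (hne1 k)
        rcases hall r with rfl | rfl | rfl
        · exact e
        · rw [← hcon k]; exact e
        · exact hp
      · exact ⟨e, (hcon k) ▸ e, hp⟩
    refine hne (funext fun r => ?_)
    obtain ⟨a1, a2, a3⟩ := hval true
    obtain ⟨b1, b2, b3⟩ := hval false
    rcases hall r with rfl | rfl | rfl
    · rw [a1, b1]
    · rw [a2, b2]
    · rw [a3, b3]
  set T' := T⁻¹ with hT'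
  have hDiag : ∀ w : (S : Subgroup P), w * X = X * w → w * Y = Y * w → ∃ v : Fin 3 → F,
      (T' * G w * T'⁻¹).1 = diagonal v := by
    intro w hwX hwY
    refine ⟨fun k => (T' * G w * T'⁻¹).1 k k, ?_⟩
    ext a b
    by_cases hab : a = b
    · subst hab; simp
    rw [Matrix.diagonal_apply_ne _ hab]
    obtain ⟨k, hk⟩ := hsep a b hab
    have hc : (T' * G w * T'⁻¹).1 * diagonal (s k) = diagonal (s k) * (T' * G w * T'⁻¹).1 := by
      rw [← hmat k, ← Units.val_mul, ← Units.val_mul, hT', inv_inv]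
      congr 1
      have hcw : G w * (if k then t else j) = (if k then t else j) * G w := by
        cases k
        · show G w * j = j * G w
          simp only [j, ← map_mul]
          rw [← mul_assoc, hwY, mul_assoc, hwY, ← mul_assoc]
        · show G w * t = t * G w
          simp only [t, ← map_mul]
          rw [← mul_assoc, hwX, mul_assoc, hwX, ← mul_assoc]
      calc T⁻¹ * G w * T * (T⁻¹ * (if k then t else j) * T) = T⁻¹ * (G w * (if k then t else j)) * T := by group
        _ = T⁻¹ * (if k then t else j) * T * (T⁻¹ * G w * T) := by rw [hcw]; group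
    have := congrFun (congrFun hc a) b
    rw [Matrix.mul_diagonal, Matrix.diagonal_mul, mul_comm] at this
    exact (mul_eq_zero.1 (by linear_combination this :
      (s k b - s k a) * (T' * G w * T'⁻¹).1 a b = 0)).resolve_left (sub_ne_zero.2 hk.symm)
  obtain ⟨va, hva⟩ := hDiag X rfl hXY
  obtain ⟨vb, hvb⟩ := hDiag Y hXY.symm rfl
  let R := {x : F // x ^ 4 = 1}
  haveI : Fintype R := Fintype.ofFinite R
  have hw : ∀ m l : Fin 4, (T' * G (X ^ (m : ℕ) * Y ^ (l : ℕ)) * T'⁻¹).1 =
      diagonal (va ^ (m : ℕ) * vb ^ (l : ℕ)) := fun m l => by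
    have := map_mul (MulAut.conj T') (G (X ^ (m : ℕ))) (G (Y ^ (l : ℕ)))
    simp only [MulAut.conj_apply] at this
    rw [map_mul G, this, map_pow, map_pow, Units.val_mul, ← conj_pow, ← conj_pow, Units.val_pow_eq_pow_val,
      Units.val_pow_eq_pow_val, hva, hvb, Matrix.diagonal_pow, Matrix.diagonal_pow, Matrix.diagonal_mul_diagonal]
    rfl
  have hw4 : ∀ (m l : Fin 4) (k : Fin 3), ((va ^ (m : ℕ) * vb ^ (l : ℕ)) k) ^ 4 = 1 := fun m l k => by
    have h4 : (X ^ (m : ℕ) * Y ^ (l : ℕ)) ^ 4 = 1 := by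
      rw [((show Commute X Y from hXY).pow_pow _ _).mul_pow, ← pow_mul, ← pow_mul, mul_comm (m : ℕ) 4,
        mul_comm (l : ℕ) 4, pow_mul, pow_mul]
      have hx4 : X ^ 4 = 1 := by rw [← hX4]; exact pow_orderOf_eq_one X
      have hy4 : Y ^ 4 = 1 := by rw [← hY4]; exact pow_orderOf_eq_one Y
      rw [hx4, hy4, one_pow, one_pow, one_mul]
    have := congrArg Units.val (conj_pow (a := T') (b := G (X ^ (m : ℕ) * Y ^ (l : ℕ))) (i := 4))
    rw [Units.val_pow_eq_pow_val, hw, Matrix.diagonal_pow, ← map_pow, h4, map_one, mul_one, mul_inv_cancel,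
      Units.val_one] at this
    simpa using congrFun (congrFun this k) k
  let φ : Fin 4 × Fin 4 → R × R := fun q => (⟨_, hw4 q.1 q.2 0⟩, ⟨_, hw4 q.1 q.2 1⟩)
  have hwd : ∀ m l : Fin 4, (va ^ (m : ℕ) * vb ^ (l : ℕ)) 0 * (va ^ (m : ℕ) * vb ^ (l : ℕ)) 1 *
      (va ^ (m : ℕ) * vb ^ (l : ℕ)) 2 = 1 := fun m l => by
    have := ((hP.pre ht).conj T').det _ (mem_conjP.2 (by simpa [mul_assoc] using hGm (X ^ (m : ℕ) * Y ^ (l : ℕ))) :
      T' * G (X ^ (m : ℕ) * Y ^ (l : ℕ)) * T'⁻¹ ∈ conjP T' P)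
    rwa [hw, Matrix.det_diagonal, Fin.prod_univ_three] at this
  have hφ : Function.Injective φ := fun q q' e => by
    have e0 : (va ^ (q.1 : ℕ) * vb ^ (q.2 : ℕ)) 0 = (va ^ (q'.1 : ℕ) * vb ^ (q'.2 : ℕ)) 0 :=
      congrArg (fun z : R × R => z.1.1) e
    have e1 : (va ^ (q.1 : ℕ) * vb ^ (q.2 : ℕ)) 1 = (va ^ (q'.1 : ℕ) * vb ^ (q'.2 : ℕ)) 1 :=
      congrArg (fun z : R × R => z.2.1) e
    have e2 : (va ^ (q.1 : ℕ) * vb ^ (q.2 : ℕ)) 2 = (va ^ (q'.1 : ℕ) * vb ^ (q'.2 : ℕ)) 2 := by
      have a1 := hwd q.1 q.2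
      have a2 := hwd q'.1 q'.2
      rw [← e0, ← e1] at a2
      exact mul_left_cancel₀ (fun h => by rw [h, zero_mul] at a1; exact zero_ne_one a1) (a1.trans a2.symm)
    have hv : va ^ (q.1 : ℕ) * vb ^ (q.2 : ℕ) = va ^ (q'.1 : ℕ) * vb ^ (q'.2 : ℕ) :=
      funext fun k => by fin_cases k <;> [exact e0; exact e1; exact e2]
    have := hinj q.1 q.2 q'.1 q'.2 (hG (mul_left_cancel (mul_right_cancel (Units.ext
      ((hw q.1 q.2).trans ((congrArg diagonal hv).trans (hw q'.1 q'.2).symm))) :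
        T' * G (X ^ (q.1 : ℕ) * Y ^ (q.2 : ℕ)) = T' * G (X ^ (q'.1 : ℕ) * Y ^ (q'.2 : ℕ)))))
    exact Prod.ext this.1 this.2
  have hRset : Fintype.card R ≤ 4 := by
    have : Fintype.card R ≤ (Polynomial.nthRootsFinset 4 (1 : F)).card := by
      rw [← Fintype.card_coe]
      exact Fintype.card_le_of_injective (fun x => ⟨x.1, (Polynomial.mem_nthRootsFinset (by norm_num) 1).2 x.2⟩)
        (fun a b e => Subtype.ext (congrArg (fun y => y.1) e))
    refine this.trans ?_
    rw [Polynomial.nthRootsFinset_def]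
    exact (Multiset.toFinset_card_le _).trans (Polynomial.card_nthRoots 4 1)
  have h16 := Fintype.card_le_of_injective φ hφ
  simp only [Fintype.card_prod, Fintype.card_fin] at h16
  have hR4 : Fintype.card R = 4 := by nlinarith
  have hsurj : Function.Surjective φ := ((Fintype.bijective_iff_injective_and_card φ).2
    ⟨hφ, by simp [hR4]⟩).2
  obtain ⟨i, hi⟩ : ∃ i : F, i * i = -1 := by
    by_contra hno
    push Not at hno
    have : Fintype.card R ≤ 2 := by
      refine (Fintype.card_le_of_injective (fun x : R => decide (x.1 = 1)) fun a b e => Subtype.ext ?_).trans (by simp)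
      have hcase : ∀ x : R, x.1 = 1 ∨ x.1 = -1 := fun x => by
        refine mul_self_eq_one_iff.1 ((mul_self_eq_one_iff.1 ?_).resolve_right (hno x.1))
        have := x.2
        linear_combination this
      simp only [decide_eq_decide] at e
      rcases hcase a with a1 | a1 <;> rcases hcase b with b1 | b1 <;> rw [a1, b1] at e ⊢
      · exact (e.1 rfl).symm
      · exact e.2 rfl
    omega
  have hi4 : i ^ 4 = 1 := by linear_combination (i * i - 1) * hi
  have hfr : ∀ k : Fin 3, ∃ g ∈ conjP T' P, g.1 = lam i (Matrix.single k k (1 : F)) := by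
    intro k
    let v : Fin 3 → F := fun r => if r = k then -1 else i
    have hv4 : ∀ r, v r ^ 4 = 1 := fun r => by
      show (if r = k then (-1 : F) else i) ^ 4 = 1
      split
      · norm_num
      · exact hi4
    obtain ⟨⟨m, l⟩, hml'⟩ := hsurj (⟨v 0, hv4 0⟩, ⟨v 1, hv4 1⟩)
    have hml : (va ^ (m : ℕ) * vb ^ (l : ℕ)) 0 = v 0 ∧ (va ^ (m : ℕ) * vb ^ (l : ℕ)) 1 = v 1 :=
      ⟨congrArg (fun z : R × R => z.1.1) hml', congrArg (fun z : R × R => z.2.1) hml'⟩
    refine ⟨_, mem_conjP.2 (by simpa [mul_assoc] using hGm (X ^ (m : ℕ) * Y ^ (l : ℕ))) ,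
      (hw m l).trans ?_⟩
    have h2' : (va ^ (m : ℕ) * vb ^ (l : ℕ)) 2 = v 2 := by
      have a1 := hwd m l
      rw [hml.1, hml.2] at a1
      have a2 : v 0 * v 1 * v 2 = 1 := by fin_cases k <;> simp [v] <;> linear_combination -hi
      exact mul_left_cancel₀ (fun h => by rw [h, zero_mul] at a2; exact zero_ne_one a2) (a1.trans a2.symm)
    have hv : va ^ (m : ℕ) * vb ^ (l : ℕ) = v := funext fun r => by fin_cases r <;> [exact hml.1; exact hml.2; exact h2']
    rw [hv]
    ext r c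
    fin_cases k <;> fin_cases r <;> fin_cases c <;> simp [v, lam]
  exact frame_false ((hP.pre ht).conj T') ((hP.centRich S (Or.inr hS)).conj T') h2 hi hfr

theorem gl23_facts :
    ∃ A0 B0 : GL (Fin 2) (ZMod 3), A0 * B0 = B0 * (B0 * A0) ∧ B0 ^ 3 = 1 ∧ B0 ≠ 1 := by
  refine ⟨⟨!![-1, 0; 0, 1], !![-1, 0; 0, 1], by decide, by decide⟩, ⟨!![1, 1; 0, 1], !![1, -1; 0, 1], by decide,
    by decide⟩, Units.ext ?_, Units.ext ?_, fun e => ?_⟩
  · decide
  · rw [Units.val_pow_eq_pow_val]
    decide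
  · have h : (!![1, 1; 0, 1] : Matrix (Fin 2) (Fin 2) (ZMod 3)) = 1 := congrArg Units.val e
    revert h
    decide

theorem Core.no_quasiDihedral (hP : Core P) (h2 : (2 : F) ≠ 0) (ht : ¬ HasTransvection P) (S : Sylow 2 P)
    (hS : IsQuasiDihedral (S : Subgroup P)) : False := by
  classical
  haveI := hP.simple
  haveI : Fact (Nat.Prime 2) := ⟨Nat.prime_two⟩
  haveI : Fact (Nat.Prime 3) := ⟨Nat.prime_three⟩
  have hpre := hP.pre ht
  have hcr := hP.centRich S (Or.inl hS)
  obtain ⟨S', ⟨eS⟩⟩ := hP.sylow_image S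
  have hS' : IsQuasiDihedral (S' : Subgroup (P ⧸ Subgroup.subgroupOf Zs P)) := by
    obtain ⟨n, hn, hc, x, y, hx, hy, hxy⟩ := hS
    exact ⟨n, hn, by rw [← Nat.card_congr eS.toEquiv]; exact hc, eS x, eS y,
      by rw [eS.orderOf_eq]; exact hx, by rw [eS.orderOf_eq]; exact hy,
      by rw [← map_inv, ← map_mul, ← map_mul, hxy, map_pow]⟩
  obtain ⟨n, -, -, d, -⟩ := CfsgLib.QD.exists_data hS'
  set z : P ⧸ Subgroup.subgroupOf Zs P := d.z.1
  set y : P ⧸ Subgroup.subgroupOf Zs P := d.y.1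
  have hzz : z * z = 1 := congrArg Subtype.val (CfsgLib.Involutions.mul_self_eq_one_of_orderOf (CfsgLib.QD.orderOf_z d))
  have hyy : y * y = 1 := congrArg Subtype.val (CfsgLib.QD.hyy d)
  have hz1 : z ≠ 1 := fun e => CfsgLib.QD.z_ne_one d (Subtype.ext e)
  have hy1 : y ≠ 1 := fun e => by
    have h := d.hy
    rw [show d.y = 1 from Subtype.ext e, orderOf_one] at h
    norm_num at h
  have hzy : z ≠ y := fun e => CfsgLib.QD.y_not_mem d ((show d.z = d.y from Subtype.ext e) ▸ CfsgLib.QD.z_mem_X d)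
  have hcm : z * y = y * z :=
    congrArg Subtype.val (Subgroup.mem_center_iff.1 (CfsgLib.QD.z_central d) d.y).symm
  let V : Subgroup (P ⧸ Subgroup.subgroupOf Zs P) :=
    { carrier := {g | g = 1 ∨ g = z ∨ g = y ∨ g = z * y}
      one_mem' := Or.inl rfl
      mul_mem' := by
        intro a b ha hb
        have e1 : y * (z * y) = z := by rw [hcm, ← mul_assoc, hyy, one_mul]
        have e2 : z * y * (z * y) = 1 := by rw [mul_assoc, e1, hzz]
        have e3 : z * (z * y) = y := by rw [← mul_assoc, hzz, one_mul]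
        rcases ha with rfl | rfl | rfl | rfl <;> rcases hb with rfl | rfl | rfl | rfl <;>
          simp [hzz, hyy, ← hcm, e1, e2, e3, mul_assoc]
      inv_mem' := by
        intro a ha
        have iz : z⁻¹ = z := inv_eq_of_mul_eq_one_right hzz
        have iy : y⁻¹ = y := inv_eq_of_mul_eq_one_right hyy
        rcases ha with rfl | rfl | rfl | rfl <;> simp [iz, iy, hcm] }
  have hVS : V ≤ (S' : Subgroup (P ⧸ Subgroup.subgroupOf Zs P)) := by
    rintro _ (rfl | rfl | rfl | rfl)
    exacts [one_mem _, d.z.2, d.y.2, mul_mem d.z.2 d.y.2]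
  have hzyne : z * y ≠ 1 := fun e => hzy ((eq_inv_of_mul_eq_one_left e).trans (inv_eq_of_mul_eq_one_right hyy))
  have hV4 : Nat.card V = 4 := by
    have : (V : Set (P ⧸ Subgroup.subgroupOf Zs P)) =
        (({1, z, y, z * y} : Finset (P ⧸ Subgroup.subgroupOf Zs P)) : Set _) := by
      ext g; simp [V]
    rw [← SetLike.coe_sort_coe, this, Nat.card_eq_fintype_card]
    simp only [Fintype.card_ofFinset, Finset.coe_sort_coe, Fintype.card_coe]
    rw [Finset.card_insert_of_notMem (by simp [hz1.symm, hy1.symm, hzyne.symm]),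
      Finset.card_insert_of_notMem (by simp [hzy, hy1]), Finset.card_pair (by simp [hz1])]
  have hVk : IsKleinFour V := by
    refine ⟨hV4, ?_⟩
    refine Nat.dvd_antisymm (Monoid.exponent_dvd_of_forall_pow_eq_one ?_) ?_
    · rintro ⟨g, rfl | rfl | rfl | rfl⟩ <;> refine Subtype.ext ?_ <;> simp [pow_two, hzz, hyy]
      rw [mul_assoc, ← mul_assoc y, ← hcm, mul_assoc, hyy, mul_one, hzz]
    · have := Monoid.order_dvd_exponent (⟨z, Or.inr (Or.inl rfl)⟩ : V)
      have ho : orderOf (⟨z, Or.inr (Or.inl rfl)⟩ : V) = 2 :=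
        orderOf_eq_prime (Subtype.ext (by rw [Subgroup.coe_pow, pow_two]; exact hzz))
          (fun e => hz1 (congrArg (fun u : V => u.1) e))
      rwa [ho] at this
  obtain ⟨Zl, hZl, hZl2⟩ := hP.lift_sq z hzz
  obtain ⟨Yl, hYl, hYl2⟩ := hP.lift_sq y hyy
  have hZY : (Zl : G3) ≠ Yl := fun e => hzy (by rw [← hZl, ← hYl, Subtype.ext e])
  have hZYc : (Zl : G3) * Yl = (Yl : G3) * Zl := hP.comm_of_image hZl2 (by rw [hZl, hYl]; exact hcm)
  have hCV : Subgroup.centralizer (V : Set (P ⧸ Subgroup.subgroupOf Zs P)) = V := by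
    set C := Subgroup.centralizer (V : Set (P ⧸ Subgroup.subgroupOf Zs P))
    have hle : V ≤ C := fun a ha => Subgroup.mem_centralizer_iff.2 fun b hb => by
      rcases ha with rfl | rfl | rfl | rfl <;> rcases hb with rfl | rfl | rfl | rfl <;>
        first
        | simp
        | exact hcm
        | exact hcm.symm
        | (simp only [mul_assoc, ← hcm]; done)
        | (simp only [← mul_assoc, hcm]; done)
        | (simp [mul_assoc, hcm])
    have hcz : ∀ g ∈ C, g * z = z * g ∧ g * y = y * g := fun g hg =>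
      ⟨(Subgroup.mem_centralizer_iff.1 hg z (Or.inr (Or.inl rfl))).symm,
        (Subgroup.mem_centralizer_iff.1 hg y (Or.inr (Or.inr (Or.inl rfl)))).symm⟩
    have hodd : ∀ g ∈ C, Odd (orderOf g) → g = 1 := by
      intro g hg ho
      obtain ⟨x, rfl⟩ := QuotientGroup.mk'_surjective _ g
      have hxo : Odd (orderOf (x : G3)) := by
        rw [Subgroup.orderOf_coe]
        refine Odd.of_dvd_nat (ho.mul (by decide : Odd 3)) (orderOf_dvd_of_pow_eq_one ?_)
        rw [pow_mul]
        refine hP.pow_three_of_scalar ((QuotientGroup.eq_one_iff _).1 ?_)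
        show piZ P (x ^ orderOf (piZ P x)) = 1
        rw [map_pow, pow_orderOf_eq_one]
      obtain ⟨a, ha⟩ := odd_scalar_of_cent hpre hcr h2 Zl.2 Yl.2 x.2 (coe_sq hZl2) (coe_sq hYl2)
        (coe_ne_one hZl hz1) (coe_ne_one hYl hy1) hZY hZYc
        (congrArg Subtype.val (hP.comm_lift hZl2 (by rw [hZl]; exact (hcz _ hg).1)))
        (congrArg Subtype.val (hP.comm_lift hYl2 (by rw [hYl]; exact (hcz _ hg).2))) hxo
      exact (QuotientGroup.eq_one_iff x).2 ((Cfsg.Geo.mem_scalars_iff x.1).2 ⟨Units.mk0 a (fun h0 => by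
        rw [h0, zero_smul] at ha; exact (x : G3).ne_zero ha), ha⟩)
    have hpC : IsPGroup 2 C := fun g => by
      obtain ⟨a, m, hm, hmo⟩ := Nat.exists_eq_pow_mul_and_not_dvd (n := orderOf g.1)
        (orderOf_pos _).ne' 2 (by norm_num)
      refine ⟨a, Subtype.ext (hodd _ (pow_mem g.2 _) (Odd.of_dvd_nat (Nat.odd_iff.2 (by omega) : Odd m) ?_))⟩
      exact orderOf_dvd_of_pow_eq_one (by rw [Subgroup.coe_pow, ← pow_mul, ← hmo, pow_orderOf_eq_one])
    obtain ⟨U, hU⟩ := hpC.exists_le_sylow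
    let eU : (U : Subgroup (P ⧸ Subgroup.subgroupOf Zs P)) ≃* (S' : Subgroup (P ⧸ Subgroup.subgroupOf Zs P)) := Sylow.equiv U S'
    have hVU : ∀ v ∈ V, v ∈ (U : Subgroup (P ⧸ Subgroup.subgroupOf Zs P)) := fun v hv => hU (hle hv)
    let a := eU ⟨z, hVU z (Or.inr (Or.inl rfl))⟩
    let b := eU ⟨y, hVU y (Or.inr (Or.inr (Or.inl rfl)))⟩
    have hinv : ∀ (v : P ⧸ Subgroup.subgroupOf Zs P) (h : v ∈ (U : Subgroup (P ⧸ Subgroup.subgroupOf Zs P))), v * v = 1 → v ≠ 1 →
        orderOf (eU ⟨v, h⟩) = 2 := fun v h hv hv1 => by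
      rw [eU.orderOf_eq]
      exact orderOf_eq_prime (by rw [pow_two]; exact Subtype.ext hv) (fun e => hv1 (congrArg Subtype.val e))
    have hsmall : ∀ c w : (S' : Subgroup (P ⧸ Subgroup.subgroupOf Zs P)), orderOf c = 2 → c ≠ d.z → w * c = c * w →
        w = 1 ∨ w = d.z ∨ w = c ∨ w = d.z * c := by
      intro c w hc hcz' hw
      obtain ⟨j, rfl⟩ := (CfsgLib.QD.involution_cases d hc).resolve_left hcz'
      obtain ⟨i, rfl | rfl⟩ := CfsgLib.QD.cases_elem d w
      · rcases CfsgLib.QD.zpow_sq_eq_one_cases d ((CfsgLib.QD.commute_xy_iff d).1 hw) with e | e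
        · exact Or.inl e
        · exact Or.inr (Or.inl e)
      · have hk : Commute (d.x ^ (i - 2 * j)) (d.x ^ (2 * j) * d.y) := by
          have e : d.x ^ (i - 2 * j) = d.x ^ i * d.y * (d.x ^ (2 * j) * d.y)⁻¹ := by
            rw [_root_.mul_inv_rev, mul_assoc, ← mul_assoc d.y, mul_inv_cancel, one_mul, ← _root_.zpow_sub]
          rw [e]
          exact (show Commute (d.x ^ i * d.y) (d.x ^ (2 * j) * d.y) from hw).mul_left
            (Commute.inv_left (Commute.refl _))
        have e : d.x ^ i * d.y = d.x ^ (i - 2 * j) * (d.x ^ (2 * j) * d.y) := by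
          rw [← mul_assoc, ← _root_.zpow_add, sub_add_cancel]
        rcases CfsgLib.QD.zpow_sq_eq_one_cases d ((CfsgLib.QD.commute_xy_iff d).1 hk) with e' | e'
        · exact Or.inr (Or.inr (Or.inl (by rw [e, e', one_mul])))
        · exact Or.inr (Or.inr (Or.inr (by rw [e, e'])))
    obtain ⟨c, hco, hcz', hcC⟩ : ∃ c : (S' : Subgroup (P ⧸ Subgroup.subgroupOf Zs P)), orderOf c = 2 ∧ c ≠ d.z ∧
        ∀ g (h : g ∈ C), eU ⟨g, hU h⟩ * c = c * eU ⟨g, hU h⟩ := by
      have hcomm : ∀ (v : P ⧸ Subgroup.subgroupOf Zs P) (hv : v ∈ (U : Subgroup (P ⧸ Subgroup.subgroupOf Zs P))),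
          (∀ g ∈ C, g * v = v * g) → ∀ g (h : g ∈ C), eU ⟨g, hU h⟩ * eU ⟨v, hv⟩ = eU ⟨v, hv⟩ * eU ⟨g, hU h⟩ := by
        intro v hv hc g hg
        rw [← map_mul, ← map_mul]
        exact congrArg eU (Subtype.ext (hc g hg))
      by_cases ha : a = d.z
      · refine ⟨b, hinv y _ hyy hy1, fun e => hzy ?_, hcomm y _ fun g hg => (hcz g hg).2⟩
        exact congrArg (fun u : (U : Subgroup (P ⧸ Subgroup.subgroupOf Zs P)) => u.1) (eU.injective (ha.trans e.symm))
      · exact ⟨a, hinv z _ hzz hz1, ha, hcomm z _ fun g hg => (hcz g hg).1⟩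
    have hC4 : Nat.card C ≤ 4 := by
      haveI := Fintype.ofFinite C
      rw [Nat.card_eq_fintype_card]
      refine (Fintype.card_le_of_injective (β := ({1, d.z, c, d.z * c} : Finset (S' : Subgroup (P ⧸ Subgroup.subgroupOf Zs P))))
        (fun g => ⟨eU ⟨g.1, hU g.2⟩, by simpa using hsmall c _ hco hcz' (hcC g.1 g.2)⟩) ?_).trans ?_
      · intro g g' e
        exact Subtype.ext (congrArg (fun u : (U : Subgroup (P ⧸ Subgroup.subgroupOf Zs P)) => u.1)
          (eU.injective (congrArg Subtype.val e)))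
      · rw [Fintype.card_coe]; exact Finset.card_le_four
    exact (Subgroup.eq_of_le_of_card_ge hle (by rw [hV4]; exact hC4)).symm
  haveI := hVk
  obtain ⟨t, hto, ⟨ψ⟩⟩ := CfsgLib.SuborbitGroups.SD.centralizer_gl S' hS' hVk hVS hCV
  have hidx : ∀ H : Subgroup (P ⧸ Subgroup.subgroupOf Zs P), H.index ≠ 2 := fun H hH => by
    refine hP.index_ne_two (H.comap (piZ P)) ?_
    rw [Subgroup.index_comap_of_surjective _ (QuotientGroup.mk'_surjective _)]
    exact hH
  have h9 : 9 ∣ Nat.card (P ⧸ Subgroup.subgroupOf Zs P) := by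
    rcases Cfsg.Agent.S2916.result
      (CfsgLib.AfterFT.DihedralSquare.pResidual_eq_top fun N _ => hidx N) t hto ⟨ψ⟩ with
      ⟨K, hK, hKt, h3, ⟨e⟩⟩ | hM
    · rw [Nat.card_congr e.toEquiv, CfsgInvPattern.card_psl h3]; norm_num
    · obtain ⟨e⟩ : Nonempty ((P ⧸ Subgroup.subgroupOf Zs P) ≃* Spor.M11) := hM
      rw [Nat.card_congr e.toEquiv, CfsgGolay.card_sporM11]; norm_num
  obtain ⟨A0, B0, hcom⟩ := gl23_facts
  obtain ⟨tl, htl, htl2⟩ := hP.lift_sq t (CfsgLib.Involutions.mul_self_eq_one_of_orderOf hto)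
  obtain ⟨al, hal⟩ := QuotientGroup.mk'_surjective _ (ψ.symm A0).1
  obtain ⟨bl, hbl⟩ := QuotientGroup.mk'_surjective _ (ψ.symm B0).1
  set w : P ⧸ Subgroup.subgroupOf Zs P := (ψ.symm B0).1
  have hab : piZ P ⁅al, bl⁆ = w := by
    rw [map_commutatorElement, show piZ P al = _ from hal, show piZ P bl = _ from hbl]
    show ((⁅ψ.symm A0, ψ.symm B0⁆ : Subgroup.centralizer _) : P ⧸ _) = w
    rw [← map_commutatorElement, commutatorElement_def, hcom.1]
    simp [w, mul_assoc]
  have hw1 : w ≠ 1 := fun e => hcom.2.2 (ψ.symm.injective (by rw [map_one]; exact Subtype.ext e))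
  have hw3 : w ^ 3 = 1 := by
    rw [show w = ((ψ.symm B0 : Subgroup.centralizer _) : P ⧸ _) from rfl, ← Subgroup.coe_pow, ← map_pow, hcom.2.1,
      map_one, Subgroup.coe_one]
  have hto' : orderOf w = 3 := orderOf_eq_prime hw3 hw1
  have hct : ∀ g, g * w = w * g → g * t = t * g := by
    intro g hg
    obtain ⟨gl, rfl⟩ := QuotientGroup.mk'_surjective _ g
    set ζz := gl * ⁅al, bl⁆ * gl⁻¹ * ⁅al, bl⁆⁻¹ with hζz
    have hz : ζz ∈ Subgroup.subgroupOf Zs P := (QuotientGroup.eq_one_iff _).1 (by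
      show piZ P ζz = 1
      rw [hζz, map_mul, map_mul, map_mul, map_inv, map_inv, hab, show piZ P gl * w = w * piZ P gl from hg,
        mul_inv_cancel_right, mul_inv_cancel])
    obtain ⟨ζ, hζ⟩ := (Cfsg.Geo.mem_scalars_iff ζz.1).1 hz
    have hy3 : ∃ c : F, (((⁅al, bl⁆ : P) : G3) ^ 3).1 = c • (1 : M3) := by
      obtain ⟨c, hc⟩ := (Cfsg.Geo.mem_scalars_iff _).1 ((QuotientGroup.eq_one_iff (⁅al, bl⁆ ^ 3)).1 (by
        show piZ P (⁅al, bl⁆ ^ 3) = 1
        rw [map_pow, hab, hw3]))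
      exact ⟨c, by simpa using hc⟩
    have hcomm : ∀ x : Subgroup.centralizer ({t} : Set (P ⧸ Subgroup.subgroupOf Zs P)), ∀ xl : P,
        piZ P xl = x.1 → (xl : G3) * tl = (tl : G3) * xl := fun x xl hx =>
      congrArg Subtype.val (hP.comm_lift htl2 (by
        rw [hx, htl]; exact Subgroup.mem_centralizer_singleton_iff.1 x.2))
    have := three_cent hpre hcr h2 (g := (gl : G3)) tl.2 (coe_sq htl2)
      (coe_ne_one htl (fun e => by rw [e, orderOf_one] at hto; norm_num at hto)) al.2 bl.2 gl.2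
      (hcomm _ al hal) (hcomm _ bl hbl) (by simpa [commutatorElement_def] using hy3)
      (fun c hc => hw1 (by
        rw [← hab]
        refine (QuotientGroup.eq_one_iff _).2 ((Cfsg.Geo.mem_scalars_iff _).2 ⟨Units.mk0 c (fun h0 => by
          rw [h0, zero_smul] at hc; exact (⁅(al : G3), (bl : G3)⁆).ne_zero hc), ?_⟩)
        simpa [commutatorElement_def] using hc))
      (ζ := (ζ : F)) (by
        have e : gl * ⁅al, bl⁆ = ζz * (⁅al, bl⁆ * gl) := by rw [hζz]; group
        have e' := congrArg (fun x : P => x.1.1) e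
        simp only [Subgroup.coe_mul, Units.val_mul] at e'
        rw [hζ, smul_mul_assoc, one_mul] at e'
        simpa [commutatorElement_def] using e')
    rw [← htl]
    show piZ P gl * piZ P tl = piZ P tl * piZ P gl
    rw [← map_mul, ← map_mul, show gl * tl = tl * gl from Subtype.ext this]
  obtain ⟨T, hT⟩ : ∃ T : Sylow 3 (P ⧸ Subgroup.subgroupOf Zs P), w ∈ (T : Subgroup (P ⧸ Subgroup.subgroupOf Zs P)) := by
    obtain ⟨T, hT⟩ := (IsPGroup.of_card (n := 1) (by rw [Nat.card_zpowers, hto', pow_one]) :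
      IsPGroup 3 (Subgroup.zpowers w)).exists_le_sylow
    exact ⟨T, hT (Subgroup.mem_zpowers w)⟩
  have h9T : 9 ∣ Nat.card (T : Subgroup (P ⧸ Subgroup.subgroupOf Zs P)) :=
    T.pow_dvd_card_of_pow_dvd_card (n := 2) h9
  set w' : (T : Subgroup (P ⧸ Subgroup.subgroupOf Zs P)) := ⟨w, hT⟩
  have h9C : 9 ∣ Nat.card (Subgroup.centralizer ({w'} : Set (T : Subgroup (P ⧸ Subgroup.subgroupOf Zs P)))) := by
    set Cw := Subgroup.centralizer ({w'} : Set (T : Subgroup (P ⧸ Subgroup.subgroupOf Zs P)))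
    obtain ⟨k, hk⟩ := (T.2.to_subgroup Cw).exists_card_eq
    rw [hk]
    refine dvd_trans (show 9 ∣ 3 ^ 2 by norm_num) (pow_dvd_pow 3 ?_)
    by_contra hk2
    have hwC : w' ∈ Cw := Subgroup.mem_centralizer_singleton_iff.2 rfl
    have hzC : Subgroup.center (T : Subgroup (P ⧸ Subgroup.subgroupOf Zs P)) ≤ Cw := fun x hx =>
      Subgroup.mem_centralizer_singleton_iff.2 (Subgroup.mem_center_iff.1 hx w').symm
    haveI : Nontrivial (T : Subgroup (P ⧸ Subgroup.subgroupOf Zs P)) := by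
      rw [← Finite.one_lt_card_iff_nontrivial]
      exact lt_of_lt_of_le (by norm_num) (Nat.le_of_dvd Nat.card_pos h9T)
    obtain ⟨c, hc, hc1⟩ := (Subgroup.ne_bot_iff_exists_ne_one.1
      (T.2.bot_lt_center).ne' : ∃ c : Subgroup.center (T : Subgroup (P ⧸ Subgroup.subgroupOf Zs P)), c ≠ 1).elim
      fun c h => (⟨c.1, c.2, fun e => h (Subtype.ext e)⟩ :
        ∃ c, c ∈ Subgroup.center (T : Subgroup (P ⧸ Subgroup.subgroupOf Zs P)) ∧ c ≠ 1)
    have hzp : Subgroup.zpowers w' = Cw := by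
      refine Subgroup.eq_of_le_of_card_ge (Subgroup.zpowers_le.2 hwC) ?_
      rw [Nat.card_zpowers, show orderOf w' = 3 from (Subgroup.orderOf_mk _ _).trans hto', hk]
      calc 3 ^ k ≤ 3 ^ 1 := Nat.pow_le_pow_right (by norm_num) (by omega)
        _ = 3 := pow_one 3
    obtain ⟨m, hm⟩ := Subgroup.mem_zpowers_iff.1 (hzp ▸ hzC hc : c ∈ Subgroup.zpowers w')
    have hwcen : Cw = ⊤ := by
      refine eq_top_iff.2 fun g _ => Subgroup.mem_centralizer_singleton_iff.2 ?_
      have hgc : Commute g c := Subgroup.mem_center_iff.1 hc g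
      have h3 : w' ^ (3 : ℤ) = 1 := by
        rw [show (3 : ℤ) = ((3 : ℕ) : ℤ) from rfl, zpow_natCast]; exact Subtype.ext hw3
      obtain ⟨q, hq⟩ : ∃ q : ℤ, w' = c ^ q := by
        have hm3 : ¬ (3 : ℤ) ∣ m := fun ⟨r, hr⟩ => hc1 (by rw [← hm, hr, _root_.zpow_mul, h3, _root_.one_zpow])
        refine ⟨m, ?_⟩
        rw [← hm, ← _root_.zpow_mul]
        have h31 : (3 : ℤ) ∣ m * m - 1 := by
          have : m % 3 = 1 ∨ m % 3 = 2 := by omega
          apply Int.dvd_of_emod_eq_zero
          rw [Int.sub_emod, Int.mul_emod]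
          rcases this with h | h <;> rw [h] <;> norm_num
        obtain ⟨r, hr⟩ := h31
        rw [show m * m = 1 + 3 * r by linarith, _root_.zpow_add, _root_.zpow_mul, h3, _root_.one_zpow, mul_one,
          _root_.zpow_one]
      rw [hq]
      exact hgc.zpow_right q
    have hcard : Nat.card Cw = Nat.card (T : Subgroup (P ⧸ Subgroup.subgroupOf Zs P)) := by
      rw [hwcen, Subgroup.card_top]
    rw [hk] at hcard
    have := hcard ▸ h9T
    have h1 : 3 ^ k ≤ 3 ^ 1 := Nat.pow_le_pow_right (by norm_num) (by omega)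
    have h2 := Nat.le_of_dvd (by positivity) this
    omega
  have h48 : 9 ∣ Nat.card (Subgroup.centralizer ({t} : Set (P ⧸ Subgroup.subgroupOf Zs P))) := by
    refine dvd_trans h9C (Subgroup.card_dvd_of_injective
      (MonoidHom.codRestrict ((T : Subgroup (P ⧸ Subgroup.subgroupOf Zs P)).subtype.comp
        (Subgroup.centralizer ({w'} : Set (T : Subgroup (P ⧸ Subgroup.subgroupOf Zs P)))).subtype) _
        fun x => Subgroup.mem_centralizer_singleton_iff.2 (hct _ (congrArg Subtype.val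
          (Subgroup.mem_centralizer_singleton_iff.1 x.2)))) fun x x' e => ?_)
    exact Subtype.ext (Subtype.ext (congrArg Subtype.val e :))
  rw [Nat.card_congr ψ.toEquiv, Matrix.card_GL_field, ZMod.card] at h48
  simp [Fin.prod_univ_two] at h48

/-- Without transvections and in odd characteristic, a Sylow two-subgroup is dihedral. -/
theorem dihedralSylow_of_no_transvection (h2 : (2 : F) ≠ 0) (hP : Core P) (ht : ¬ HasTransvection P) :
    DihedralSylow P := by
  classical
  haveI := hP.simple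
  haveI : Fact (Nat.Prime 2) := ⟨Nat.prime_two⟩
  obtain ⟨S⟩ : Nonempty (Sylow 2 P) := inferInstance
  obtain ⟨S', ⟨e⟩⟩ := hP.sylow_image S
  haveI : Fintype (GaloisField 2 4) := Fintype.ofFinite _
  have h16 : Fintype.card (GaloisField 2 4) = 16 := by
    rw [← Nat.card_eq_fintype_card, GaloisField.card 2 4 (by norm_num)]
    norm_num
  obtain ⟨Q⟩ : Nonempty (Sylow 2 (Cfsg.PSU 3 (GaloisField 2 4) 4)) := inferInstance
  rcases Cfsg.Agent.S0516.result hP.nonabelian (hP.rank h2) S' h16 Q with ⟨n, hn, ⟨d⟩⟩ | hq | hw | ⟨⟨d⟩⟩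
  · exact ⟨S, n, hn, ⟨e.trans d⟩⟩
  · rcases CfsgLib.GWConseq.QDCentre.qdw_of_equiv e.symm (Or.inl hq) with h | h
    · exact (hP.no_quasiDihedral h2 ht S h).elim
    · exact (hP.no_wreathed h2 ht S h).elim
  · rcases CfsgLib.GWConseq.QDCentre.qdw_of_equiv e.symm (Or.inr hw) with h | h
    · exact (hP.no_quasiDihedral h2 ht S h).elim
    · exact (hP.no_wreathed h2 ht S h).elim
  · exact (hP.no_unitary h2 S' h16 Q d).elim

end CfsgLib.ResThree
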